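import Mathlib

/-!
# Polynomial functions on `ℕ^r` of bounded degree and finite differences.
-/

set_option autoImplicit false

namespace Groth.Agent.H5.Snap

open Finset

/-- the monomial function `n ↦ ∏ n_i ^ a_i`. -/
def monoFn {r : ℕ} (a : Fin r → ℕ) (n : Fin r → ℕ) : ℚ := ∏ i, (n i : ℚ) ^ a i

/-- polynomial functions `ℕ^r → ℚ` all of whose monomials have degree `< d`. -/
def PolLT (r d : ℕ) : Submodule ℚ ((Fin r → ℕ) → ℚ) :=
  Submodule.span ℚ (monoFn '' {a : Fin r → ℕ | ∑ i, a i < d})

lemma monoFn_mem {r d : ℕ} (a : Fin r → ℕ) (h : ∑ i, a i < d) : monoFn a ∈ PolLT r d :=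
  Submodule.subset_span ⟨a, h, rfl⟩

lemma PolLT_mono (r : ℕ) {d d' : ℕ} (h : d ≤ d') : PolLT r d ≤ PolLT r d' := by
  apply Submodule.span_mono
  rintro _ ⟨a, ha, rfl⟩
  exact ⟨a, lt_of_lt_of_le ha h, rfl⟩

lemma monoFn_cons {r : ℕ} (a : Fin (r + 1) → ℕ) (t : ℕ) (n : Fin r → ℕ) :
    monoFn a (Fin.cons t n) = (t : ℚ) ^ a 0 * monoFn (Fin.tail a) n := by
  unfold monoFn
  rw [Fin.prod_univ_succ]
  simp [Fin.tail]

lemma monoFn_eq {r : ℕ} (a : Fin (r + 1) → ℕ) (n : Fin (r + 1) → ℕ) :
    monoFn a n = (n 0 : ℚ) ^ a 0 * monoFn (Fin.tail a) (Fin.tail n) := by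
  unfold monoFn
  rw [Fin.prod_univ_succ]
  simp [Fin.tail]

lemma sum_tail {r : ℕ} (a : Fin (r + 1) → ℕ) : ∑ i, a i = a 0 + ∑ i, Fin.tail a i := by
  rw [Fin.sum_univ_succ]
  simp [Fin.tail]

/-- restriction to the hyperplane `n_0 = 0`. -/
lemma restrict_mem {r d : ℕ} (f : (Fin (r + 1) → ℕ) → ℚ) (hf : f ∈ PolLT (r + 1) d) :
    (fun n' : Fin r → ℕ => f (Fin.cons 0 n')) ∈ PolLT r d := by
  have key : Submodule.map (LinearMap.funLeft ℚ ℚ (fun n' : Fin r → ℕ => (Fin.cons 0 n' : Fin (r + 1) → ℕ)))
      (PolLT (r + 1) d) ≤ PolLT r d := by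
    rw [PolLT, Submodule.map_span_le]
    rintro _ ⟨a, ha, rfl⟩
    have : LinearMap.funLeft ℚ ℚ (fun n' : Fin r → ℕ => (Fin.cons 0 n' : Fin (r + 1) → ℕ))
        (monoFn a) = ((0 : ℚ) ^ a 0) • monoFn (Fin.tail a) := by
      funext n'
      change monoFn a (Fin.cons 0 n') = _
      rw [monoFn_cons]
      simp
    rw [this]
    apply Submodule.smul_mem
    apply monoFn_mem
    have := sum_tail a
    change ∑ i, a i < d at ha
    omega
  exact key ⟨f, hf, rfl⟩

/-- extension by a dummy first variable. -/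
lemma extend_mem {r d : ℕ} (f : (Fin r → ℕ) → ℚ) (hf : f ∈ PolLT r d) :
    (fun n : Fin (r + 1) → ℕ => f (Fin.tail n)) ∈ PolLT (r + 1) d := by
  have key : Submodule.map (LinearMap.funLeft ℚ ℚ (fun n : Fin (r + 1) → ℕ => Fin.tail n))
      (PolLT r d) ≤ PolLT (r + 1) d := by
    rw [PolLT, Submodule.map_span_le]
    rintro _ ⟨a, ha, rfl⟩
    have : LinearMap.funLeft ℚ ℚ (fun n : Fin (r + 1) → ℕ => Fin.tail n) (monoFn a) =
        monoFn (Fin.cons 0 a : Fin (r + 1) → ℕ) := by
      funext n
      change monoFn a (Fin.tail n) = _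
      rw [monoFn_eq]
      simp
    rw [this]
    apply monoFn_mem
    rw [sum_tail]
    simpa using ha
  exact key ⟨f, hf, rfl⟩

/-- discrete integration in the first variable. -/
def integ (r : ℕ) : ((Fin (r + 1) → ℕ) → ℚ) →ₗ[ℚ] ((Fin (r + 1) → ℕ) → ℚ) where
  toFun g n := ∑ t ∈ range (n 0), g (Fin.cons t (Fin.tail n))
  map_add' g g' := by
    funext n
    simp [Finset.sum_add_distrib]
  map_smul' c g := by
    funext n
    simp [Finset.mul_sum]

lemma integ_mem {r d : ℕ} (g : (Fin (r + 1) → ℕ) → ℚ) (hg : g ∈ PolLT (r + 1) d) :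
    integ r g ∈ PolLT (r + 1) (d + 1) := by
  have key : Submodule.map (integ r) (PolLT (r + 1) d) ≤ PolLT (r + 1) (d + 1) := by
    rw [PolLT, Submodule.map_span_le]
    rintro _ ⟨a, ha, rfl⟩
    change ∑ i, a i < d at ha
    have : integ r (monoFn a) = ∑ i ∈ range (a 0 + 1),
        (bernoulli i * ((a 0 + 1).choose i : ℚ) / ((a 0 : ℚ) + 1)) •
          monoFn (Fin.cons (a 0 + 1 - i) (Fin.tail a) : Fin (r + 1) → ℕ) := by
      funext n
      change ∑ t ∈ range (n 0), monoFn a (Fin.cons t (Fin.tail n)) = _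
      simp only [monoFn_cons]
      rw [← Finset.sum_mul, sum_range_pow, Finset.sum_apply, Finset.sum_mul]
      apply Finset.sum_congr rfl
      intro i _
      rw [Pi.smul_apply, monoFn_eq]
      simp only [Fin.cons_zero, Fin.tail_cons, smul_eq_mul]
      ring
    rw [this]
    apply Submodule.sum_mem
    intro i hi
    apply Submodule.smul_mem
    apply monoFn_mem
    rw [sum_tail]
    have := sum_tail a
    simp only [Fin.cons_zero, Fin.tail_cons]
    omega
  exact key ⟨g, hg, rfl⟩

/-- **finite differences**: if all the first differences of `f` are polynomial functions of degree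
`< d`, then `f` is a polynomial function of degree `< d + 1`. -/
theorem mem_PolLT_succ_of_diff (r : ℕ) : ∀ (d : ℕ) (f : (Fin r → ℕ) → ℚ),
    (∀ j, (fun n => f (n + Pi.single j 1) - f n) ∈ PolLT r d) → f ∈ PolLT r (d + 1) := by
  induction r with
  | zero =>
    intro d f _
    have : f = (f 0) • monoFn (0 : Fin 0 → ℕ) := by
      funext n
      have : n = 0 := Subsingleton.elim _ _
      subst this
      simp [monoFn]
    rw [this]
    apply Submodule.smul_mem
    apply monoFn_mem
    simp
  | succ r ih =>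
    intro d f h
    have h0 := h 0
    have hf0 : (fun n' : Fin r → ℕ => f (Fin.cons 0 n')) ∈ PolLT r (d + 1) := by
      apply ih
      intro j
      have := restrict_mem _ (h j.succ)
      convert this using 2 with n'
      congr 2
      funext i
      refine Fin.cases ?_ (fun i' => ?_) i
      · simp
      · simp [Pi.single_apply]
    have h1 := extend_mem _ hf0
    have h2 := integ_mem _ h0
    have : f = (fun n : Fin (r + 1) → ℕ => f (Fin.cons 0 (Fin.tail n))) +
        integ r (fun n => f (n + Pi.single 0 1) - f n) := by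
      funext n
      change f n = f (Fin.cons 0 (Fin.tail n)) +
        ∑ t ∈ range (n 0), (f (Fin.cons t (Fin.tail n) + Pi.single 0 1) - f (Fin.cons t (Fin.tail n)))
      have e : ∀ t : ℕ, (Fin.cons t (Fin.tail n) + Pi.single 0 1 : Fin (r + 1) → ℕ) =
          Fin.cons (t + 1) (Fin.tail n) := by
        intro t
        funext i
        refine Fin.cases ?_ (fun i' => ?_) i
        · simp
        · simp [Pi.single_apply]
      simp only [e]
      rw [Finset.sum_range_sub (fun t => f (Fin.cons t (Fin.tail n)))]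
      rw [Fin.cons_self_tail]
      ring
    rw [this]
    exact Submodule.add_mem _ h1 h2

/-- a polynomial function of degree `< d` is given by a polynomial with monomials of degree
`< d`. -/
theorem exists_poly_of_mem {r d : ℕ} (f : (Fin r → ℕ) → ℚ) (hf : f ∈ PolLT r d) :
    ∃ P : MvPolynomial (Fin r) ℚ, (∀ m ∈ P.support, (m.sum fun _ e => e) < d) ∧
      ∀ n : Fin r → ℕ, f n = MvPolynomial.eval (fun i => (n i : ℚ)) P := by
  classical
  induction hf using Submodule.span_induction with
  | mem x hx =>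
    obtain ⟨a, ha, rfl⟩ := hx
    refine ⟨MvPolynomial.monomial (Finsupp.equivFunOnFinite.symm a) 1, ?_, ?_⟩
    · intro m hm
      have := MvPolynomial.support_monomial_subset hm
      rw [Finset.mem_singleton] at this
      subst this
      rw [Finsupp.sum_fintype _ _ (fun _ => rfl)]
      exact ha
    · intro n
      rw [MvPolynomial.eval_monomial, Finsupp.prod_fintype _ _ (fun _ => by simp)]
      simp [monoFn]
  | zero => exact ⟨0, by simp, by simp⟩
  | add x y _ _ hx hy =>
    obtain ⟨P, hP1, hP2⟩ := hx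
    obtain ⟨Q, hQ1, hQ2⟩ := hy
    refine ⟨P + Q, ?_, ?_⟩
    · intro m hm
      rcases Finset.mem_union.mp (MvPolynomial.support_add hm) with h | h
      · exact hP1 m h
      · exact hQ1 m h
    · intro n
      rw [Pi.add_apply, hP2, hQ2, map_add]
  | smul c x _ hx =>
    obtain ⟨P, hP1, hP2⟩ := hx
    refine ⟨c • P, ?_, ?_⟩
    · intro m hm
      exact hP1 m (MvPolynomial.support_smul hm)
    · intro n
      rw [Pi.smul_apply, hP2, MvPolynomial.smul_eval, smul_eq_mul]

/-- the evaluation function of a polynomial with monomials of degree `< d`. -/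
theorem mem_of_poly {r d : ℕ} (P : MvPolynomial (Fin r) ℚ)
    (hP : ∀ m ∈ P.support, (m.sum fun _ e => e) < d) :
    (fun n : Fin r → ℕ => MvPolynomial.eval (fun i => (n i : ℚ)) P) ∈ PolLT r d := by
  classical
  have : (fun n : Fin r → ℕ => MvPolynomial.eval (fun i => (n i : ℚ)) P) =
      ∑ m ∈ P.support, (P.coeff m) • monoFn (fun i => m i) := by
    funext n
    rw [Finset.sum_apply]
    conv_lhs => rw [MvPolynomial.as_sum P]
    rw [map_sum]
    apply Finset.sum_congr rfl
    intro m _
    rw [MvPolynomial.eval_monomial, Finsupp.prod_fintype _ _ (fun _ => by simp)]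
    simp [monoFn]
  rw [this]
  apply Submodule.sum_mem
  intro m hm
  apply Submodule.smul_mem
  apply monoFn_mem
  have := hP m hm
  rwa [Finsupp.sum_fintype _ _ (fun _ => rfl)] at this

end Groth.Agent.H5.Snap
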