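import Mathlib

/-!
# The coefficient of `x_1 ⋯ x_d` of a polynomial of degree `≤ d` as a mixed difference.
-/

set_option autoImplicit false

namespace Groth.Agent.H5.Snap

open Finset

/-- polynomials over `ℚ` agreeing on `ℕ^r` are equal. -/
theorem eq_of_eval_nat {r : ℕ} (P Q : MvPolynomial (Fin r) ℚ)
    (h : ∀ n : Fin r → ℕ, MvPolynomial.eval (fun i => (n i : ℚ)) P =
      MvPolynomial.eval (fun i => (n i : ℚ)) Q) : P = Q := by
  apply MvPolynomial.funext_set (fun _ => Set.range (Nat.cast : ℕ → ℚ))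
    (fun _ => Set.infinite_range_of_injective Nat.cast_injective)
  intro x hx
  have hx' : ∀ i, ∃ n : ℕ, (n : ℚ) = x i := fun i => hx i (Set.mem_univ i)
  choose n hn using hx'
  have hxn : x = fun i => (n i : ℚ) := funext fun i => (hn i).symm
  rw [hxn]
  exact h n

/-- the mixed difference of a monomial. -/
lemma sum_powerset_monomial (d : ℕ) (a : Fin d → ℕ) :
    ∑ S ∈ (Finset.univ : Finset (Fin d)).powerset, (-1 : ℚ) ^ (d - S.card) *
      ∏ i, (if i ∈ S then (1 : ℚ) else 0) ^ a i = ∏ i, (1 - (0 : ℚ) ^ a i) := by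
  classical
  have h1 : ∏ i : Fin d, (1 - (0 : ℚ) ^ a i) = ∏ i : Fin d, (1 + (-(0 : ℚ) ^ a i)) := by
    apply Finset.prod_congr rfl
    intro i _
    ring
  rw [h1, Finset.prod_add]
  apply Finset.sum_congr rfl
  intro S hS
  have hcard : d - S.card = (Finset.univ \ S).card := by
    rw [Finset.card_sdiff_of_subset (Finset.subset_univ S), Finset.card_univ, Fintype.card_fin]
  rw [Finset.prod_const_one, one_mul, hcard]
  have h2 : ∏ i, (if i ∈ S then (1 : ℚ) else 0) ^ a i =
      (∏ i ∈ S, (if i ∈ S then (1 : ℚ) else 0) ^ a i) *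
        ∏ i ∈ Finset.univ \ S, (if i ∈ S then (1 : ℚ) else 0) ^ a i := by
    rw [← Finset.prod_union (Finset.disjoint_sdiff), Finset.union_sdiff_of_subset
      (Finset.subset_univ S)]
  rw [h2]
  have h3 : ∏ i ∈ S, (if i ∈ S then (1 : ℚ) else 0) ^ a i = 1 := by
    apply Finset.prod_eq_one
    intro i hi
    rw [if_pos hi, one_pow]
  have h4 : ∏ i ∈ Finset.univ \ S, (if i ∈ S then (1 : ℚ) else 0) ^ a i =
      ∏ i ∈ Finset.univ \ S, (0 : ℚ) ^ a i := by
    apply Finset.prod_congr rfl
    intro i hi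
    rw [if_neg (Finset.mem_sdiff.mp hi).2]
  rw [h3, h4, one_mul, ← Finset.prod_const, ← Finset.prod_mul_distrib]
  apply Finset.prod_congr rfl
  intro i _
  ring

/-- **the top mixed coefficient as a mixed difference.** -/
theorem coeff_one_eq_sum (d : ℕ) (P : MvPolynomial (Fin d) ℚ)
    (hP : ∀ m ∈ P.support, (m.sum fun _ e => e) ≤ d) :
    MvPolynomial.coeff (Finsupp.equivFunOnFinite.symm fun _ : Fin d => 1) P =
      ∑ S ∈ (Finset.univ : Finset (Fin d)).powerset, (-1 : ℚ) ^ (d - S.card) *
        MvPolynomial.eval (fun i => if i ∈ S then (1 : ℚ) else 0) P := by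
  classical
  have hev : ∀ S : Finset (Fin d), MvPolynomial.eval (fun i => if i ∈ S then (1 : ℚ) else 0) P =
      ∑ m ∈ P.support, P.coeff m * ∏ i, (if i ∈ S then (1 : ℚ) else 0) ^ m i := by
    intro S
    conv_lhs => rw [MvPolynomial.as_sum P]
    rw [map_sum]
    apply Finset.sum_congr rfl
    intro m _
    rw [MvPolynomial.eval_monomial, Finsupp.prod_fintype _ _ (fun _ => by simp)]
  simp only [hev]
  simp only [Finset.mul_sum]
  rw [Finset.sum_comm]
  have hterm : ∀ m ∈ P.support, ∑ S ∈ (Finset.univ : Finset (Fin d)).powerset,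
      (-1 : ℚ) ^ (d - S.card) * (P.coeff m * ∏ i, (if i ∈ S then (1 : ℚ) else 0) ^ m i) =
      P.coeff m * (if m = (Finsupp.equivFunOnFinite.symm fun _ : Fin d => 1) then 1 else 0) := by
    intro m hm
    have e1 : ∑ S ∈ (Finset.univ : Finset (Fin d)).powerset,
        (-1 : ℚ) ^ (d - S.card) * (P.coeff m * ∏ i, (if i ∈ S then (1 : ℚ) else 0) ^ m i) =
        P.coeff m * ∑ S ∈ (Finset.univ : Finset (Fin d)).powerset,
          (-1 : ℚ) ^ (d - S.card) * ∏ i, (if i ∈ S then (1 : ℚ) else 0) ^ m i := by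
      rw [Finset.mul_sum]
      apply Finset.sum_congr rfl
      intro S _
      ring
    rw [e1, sum_powerset_monomial d (fun i => m i)]
    congr 1
    by_cases hm1 : m = (Finsupp.equivFunOnFinite.symm fun _ : Fin d => 1)
    · rw [if_pos hm1]
      apply Finset.prod_eq_one
      intro i _
      rw [hm1]
      simp
    · rw [if_neg hm1]
      -- some exponent vanishes
      have hex : ∃ i, m i = 0 := by
        by_contra hcon
        push Not at hcon
        apply hm1
        have hsum := hP m hm
        rw [Finsupp.sum_fintype _ _ (fun _ => rfl)] at hsum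
        have hge : ∀ i, 1 ≤ m i := fun i => Nat.one_le_iff_ne_zero.mpr (hcon i)
        have hall : ∀ i, m i = 1 := by
          by_contra hc
          push Not at hc
          obtain ⟨i0, hi0⟩ := hc
          have hlt : ∑ i : Fin d, 1 < ∑ i : Fin d, m i := by
            apply Finset.sum_lt_sum (fun i _ => hge i)
            exact ⟨i0, Finset.mem_univ _, lt_of_le_of_ne (hge i0) (Ne.symm hi0)⟩
          simp at hlt
          omega
        apply Finsupp.ext
        intro i
        rw [hall i]
        simp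
      obtain ⟨i0, hi0⟩ := hex
      apply Finset.prod_eq_zero (Finset.mem_univ i0)
      rw [hi0]
      simp
  rw [Finset.sum_congr rfl hterm]
  simp only [mul_ite, mul_one, mul_zero, Finset.sum_ite_eq']
  split_ifs with h
  · rfl
  · exact MvPolynomial.notMem_support_iff.mp h

end Groth.Agent.H5.Snap
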