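import Mathlib
import Groth.Agent.Lib.Helper5.Snap.Arith
import Groth.Agent.Lib.Helper5.Snap.TopCoeff

/-!
# Differences lower the degree; the mixed difference operator.
-/

set_option autoImplicit false

namespace Groth.Agent.H5.Snap

open Finset

lemma add_one_pow_sub (x : ℚ) (p : ℕ) :
    (x + 1) ^ p - x ^ p = ∑ b ∈ range p, x ^ b * (p.choose b : ℚ) := by
  rw [add_pow, Finset.sum_range_succ]
  simp

/-- the first difference in the first variable lowers the degree. -/
lemma diff0_mem {r d : ℕ} (f : (Fin (r + 1) → ℕ) → ℚ) (hf : f ∈ PolLT (r + 1) (d + 1)) :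
    (fun n => f (n + Pi.single 0 1) - f n) ∈ PolLT (r + 1) d := by
  let Δ : ((Fin (r + 1) → ℕ) → ℚ) →ₗ[ℚ] ((Fin (r + 1) → ℕ) → ℚ) :=
    LinearMap.funLeft ℚ ℚ (fun n : Fin (r + 1) → ℕ => n + Pi.single 0 1) - LinearMap.id
  have key : Submodule.map Δ (PolLT (r + 1) (d + 1)) ≤ PolLT (r + 1) d := by
    rw [PolLT, Submodule.map_span_le]
    rintro _ ⟨a, ha, rfl⟩
    change ∑ i, a i < d + 1 at ha
    have : Δ (monoFn a) = ∑ b ∈ range (a 0), ((a 0).choose b : ℚ) •
        monoFn (Fin.cons b (Fin.tail a) : Fin (r + 1) → ℕ) := by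
      funext n
      change monoFn a (n + Pi.single 0 1) - monoFn a n = _
      rw [monoFn_eq a (n + Pi.single 0 1), monoFn_eq a n]
      have ht : Fin.tail (n + Pi.single 0 1) = Fin.tail n := by
        funext i
        simp [Fin.tail, Pi.single_apply]
      have h0 : ((n + Pi.single 0 1 : Fin (r + 1) → ℕ) 0 : ℚ) = (n 0 : ℚ) + 1 := by simp
      rw [ht, h0, ← sub_mul, add_one_pow_sub, Finset.sum_apply, Finset.sum_mul]
      apply Finset.sum_congr rfl
      intro b _
      rw [Pi.smul_apply, monoFn_eq]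
      simp only [Fin.cons_zero, Fin.tail_cons, smul_eq_mul]
      ring
    rw [this]
    apply Submodule.sum_mem
    intro b hb
    apply Submodule.smul_mem
    apply monoFn_mem
    rw [sum_tail]
    have := sum_tail a
    have hb' := Finset.mem_range.mp hb
    simp only [Fin.cons_zero, Fin.tail_cons]
    omega
  exact key ⟨f, hf, rfl⟩

/-- the mixed difference `Σ_S (-1)^{r - #S} f(1_S)`, defined recursively. -/
noncomputable def mixDiffL : (r : ℕ) → (((Fin r → ℕ) → ℚ) →ₗ[ℚ] ℚ)
  | 0 => LinearMap.proj (0 : Fin 0 → ℕ)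
  | r + 1 => (mixDiffL r).comp
      (LinearMap.funLeft ℚ ℚ (fun n' : Fin r → ℕ => (Fin.cons 1 n' : Fin (r + 1) → ℕ)) -
        LinearMap.funLeft ℚ ℚ (fun n' : Fin r → ℕ => (Fin.cons 0 n' : Fin (r + 1) → ℕ)))

lemma mixDiffL_succ (r : ℕ) (f : (Fin (r + 1) → ℕ) → ℚ) :
    mixDiffL (r + 1) f = mixDiffL r (fun n' => f (Fin.cons 1 n') - f (Fin.cons 0 n')) := rfl

lemma mixDiffL_monoFn : ∀ (r : ℕ) (a : Fin r → ℕ),
    mixDiffL r (monoFn a) = ∏ i, (1 - (0 : ℚ) ^ a i)
  | 0, a => by
    change monoFn a 0 = _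
    simp [monoFn]
  | r + 1, a => by
    rw [mixDiffL_succ]
    have : (fun n' : Fin r → ℕ => monoFn a (Fin.cons 1 n') - monoFn a (Fin.cons 0 n')) =
        (1 - (0 : ℚ) ^ a 0) • monoFn (Fin.tail a) := by
      funext n'
      rw [monoFn_cons, monoFn_cons, Pi.smul_apply, smul_eq_mul]
      push_cast
      ring
    rw [this, map_smul, mixDiffL_monoFn r, Fin.prod_univ_succ, smul_eq_mul]
    rfl

/-- the mixed difference kills polynomial functions of degree `< r`. -/
lemma mixDiffL_eq_zero {r : ℕ} (f : (Fin r → ℕ) → ℚ) (hf : f ∈ PolLT r r) :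
    mixDiffL r f = 0 := by
  have key : PolLT r r ≤ LinearMap.ker (mixDiffL r) := by
    rw [PolLT, Submodule.span_le]
    rintro _ ⟨a, ha, rfl⟩
    change ∑ i, a i < r at ha
    rw [SetLike.mem_coe, LinearMap.mem_ker, mixDiffL_monoFn]
    have hex : ∃ i, a i = 0 := by
      by_contra hcon
      push Not at hcon
      have hge : ∀ i, 1 ≤ a i := fun i => Nat.one_le_iff_ne_zero.mpr (hcon i)
      have : ∑ i : Fin r, 1 ≤ ∑ i : Fin r, a i := Finset.sum_le_sum (fun i _ => hge i)
      simp at this
      omega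
    obtain ⟨i0, hi0⟩ := hex
    apply Finset.prod_eq_zero (Finset.mem_univ i0)
    rw [hi0]
    simp
  exact LinearMap.mem_ker.mp (key hf)

/-- **the top mixed coefficient is the mixed difference.** -/
theorem mixDiffL_eval (d : ℕ) (P : MvPolynomial (Fin d) ℚ)
    (hP : ∀ m ∈ P.support, (m.sum fun _ e => e) ≤ d) :
    mixDiffL d (fun n : Fin d → ℕ => MvPolynomial.eval (fun i => (n i : ℚ)) P) =
      MvPolynomial.coeff (Finsupp.equivFunOnFinite.symm fun _ : Fin d => 1) P := by
  classical
  have hfun : (fun n : Fin d → ℕ => MvPolynomial.eval (fun i => (n i : ℚ)) P) =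
      ∑ m ∈ P.support, (P.coeff m) • monoFn (fun i => m i) := by
    funext n
    rw [Finset.sum_apply]
    conv_lhs => rw [MvPolynomial.as_sum P]
    rw [map_sum]
    apply Finset.sum_congr rfl
    intro m _
    rw [MvPolynomial.eval_monomial, Finsupp.prod_fintype _ _ (fun _ => by simp)]
    simp [monoFn]
  rw [hfun, map_sum]
  have hterm : ∀ m ∈ P.support, mixDiffL d ((P.coeff m) • monoFn (fun i => m i)) =
      P.coeff m * (if m = (Finsupp.equivFunOnFinite.symm fun _ : Fin d => 1) then 1 else 0) := by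
    intro m hm
    rw [map_smul, mixDiffL_monoFn, smul_eq_mul]
    congr 1
    by_cases hm1 : m = (Finsupp.equivFunOnFinite.symm fun _ : Fin d => 1)
    · rw [if_pos hm1]
      apply Finset.prod_eq_one
      intro i _
      rw [hm1]
      simp
    · rw [if_neg hm1]
      have hex : ∃ i, m i = 0 := by
        by_contra hcon
        push Not at hcon
        apply hm1
        have hsum := hP m hm
        rw [Finsupp.sum_fintype _ _ (fun _ => rfl)] at hsum
        have hge : ∀ i, 1 ≤ m i := fun i => Nat.one_le_iff_ne_zero.mpr (hcon i)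
        have hall : ∀ i, m i = 1 := by
          by_contra hc
          push Not at hc
          obtain ⟨i0, hi0⟩ := hc
          have hlt : ∑ i : Fin d, 1 < ∑ i : Fin d, m i := by
            apply Finset.sum_lt_sum (fun i _ => hge i)
            exact ⟨i0, Finset.mem_univ _, lt_of_le_of_ne (hge i0) (Ne.symm hi0)⟩
          simp at hlt
          omega
        apply Finsupp.ext
        intro i
        rw [hall i]
        simp
      obtain ⟨i0, hi0⟩ := hex
      apply Finset.prod_eq_zero (Finset.mem_univ i0)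
      rw [hi0]
      simp
  rw [Finset.sum_congr rfl hterm]
  simp only [mul_ite, mul_one, mul_zero, Finset.sum_ite_eq']
  split_ifs with h
  · rfl
  · exact (MvPolynomial.notMem_support_iff.mp h).symm

end Groth.Agent.H5.Snap
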