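import Mathlib

/-!
# Proper closed subsets of irreducible spaces have smaller dimension.
-/

set_option autoImplicit false

namespace Groth.Agent.H5.Snap

open TopologicalSpace Order

/-- a proper closed subset of an irreducible space of dimension `≤ d` has dimension `< d`. -/
theorem dim_lt_of_isClosed_ne_univ {T : Type*} [TopologicalSpace T] [IrreducibleSpace T]
    (Z : Set T) (hZ : IsClosed Z) (hne : Z ≠ Set.univ) (d : ℕ)
    (hd : topologicalKrullDim T ≤ d) : topologicalKrullDim Z < d := by
  unfold topologicalKrullDim
  rw [krullDim_lt_coe_iff]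
  intro l
  let topT : IrreducibleCloseds T :=
    ⟨Set.univ, (IrreducibleSpace.isIrreducible_univ T), isClosed_univ⟩
  let l' : LTSeries (IrreducibleCloseds T) :=
    l.map (IrreducibleCloseds.map (Subtype.val : Z → T) continuous_subtype_val)
      (IrreducibleCloseds.map_strictMono_of_isInducing Topology.IsInducing.subtypeVal)
  have hlast : l'.last < topT := by
    rw [lt_iff_le_and_ne]
    refine ⟨fun x _ => Set.mem_univ x, ?_⟩
    intro h
    apply hne
    have h1 : (l'.last : Set T) = Set.univ := by rw [h]; rfl
    have h2 : (l'.last : Set T) ⊆ Z := by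
      change closure (Subtype.val '' _) ⊆ Z
      rw [hZ.closure_subset_iff]
      rintro _ ⟨y, _, rfl⟩
      exact y.2
    rw [h1] at h2
    exact Set.univ_subset_iff.mp h2
  let l'' : LTSeries (IrreducibleCloseds T) := l'.snoc topT hlast
  have h3 : (l''.length : WithBot ℕ∞) ≤ d := (LTSeries.length_le_krullDim l'').trans hd
  have h4 : l''.length = l.length + 1 := by simp [l'', l']
  rw [h4] at h3
  have : l.length + 1 ≤ d := by exact_mod_cast h3
  omega

end Groth.Agent.H5.Snap
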