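import Mathlib
import Groth.Agent.Lib.Helper5.DegC.IntPrinciple

/-!
# Group valued dévissage on an integral Noetherian scheme.
-/

set_option autoImplicit false
universe u
open CategoryTheory CategoryTheory.Limits AlgebraicGeometry TopologicalSpace Opposite

namespace Groth.Agent.H5.Snap

open Groth.Agent.LD Groth.Agent.LD.QC Groth.Agent.H5.Curve4 Groth.Agent.H5.DegC

variable {X : Scheme.{u}} [IsIntegral X]

/-- **Dévissage on an integral Noetherian scheme**: an additive function on coherent modules with
values in an abelian group that kills torsion modules and the structure sheaf is zero. -/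
theorem integral_devissage_grp [IsNoetherian X] {A : Type*} [AddCommGroup A] (φ : X.Modules → A)
    (hiso : ∀ F F' : X.Modules, (F ≅ F') → φ F = φ F')
    (hadd : ∀ S : ShortComplex X.Modules, S.ShortExact → Coh.IsCoh S.X₁ → Coh.IsCoh S.X₂ →
      Coh.IsCoh S.X₃ → φ S.X₂ = φ S.X₁ + φ S.X₃)
    (htors : ∀ T : X.Modules, Coh.IsCoh T → IsTors T → φ T = 0)
    (hunit : φ (unitMod X) = 0) (F : X.Modules) (hF : Coh.IsCoh F) : φ F = 0 := by
  refine Groth.Agent.S0027.result X (fun F => φ F = 0) ?_ ?_ ?_ F hF
  · rintro M N ⟨e⟩ h
    rw [← hiso _ _ e]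
    exact h
  · intro S hS h1 h2 h3 p1 p3
    rw [hadd S hS h1 h2 h3, p1, p3, add_zero]
  · intro Z i hi hZ I ι hι hI
    haveI := hi
    haveI := hZ
    haveI := hι
    haveI : I.IsQuasicoherent := hI
    haveI : IsLocallyNoetherian Z := LocallyOfFiniteType.isLocallyNoetherian i
    have hIc : Coh.IsCoh I := isCoh_of_mono ι hI (Groth.Agent.LD.PF.isCoh_unitMod Z)
    have hMc : Coh.IsCoh ((Coh.push i).obj I) :=
      ⟨QC.qc_pushforward i I, QC.isFiniteType_pushforward_of_isFinite i I hIc.2⟩
    by_cases hη : genericPoint X ∈ Set.range i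
    · have hsurj : Surjective i := by
        constructor
        rw [← Set.range_eq_univ]
        have hc : IsClosed (Set.range i) := i.isClosedEmbedding.isClosed_range
        have h1 : closure {genericPoint X} ⊆ Set.range i :=
          hc.closure_subset_iff.mpr (Set.singleton_subset_iff.mpr hη)
        rw [(genericPoint_spec X).def] at h1
        exact Set.univ_subset_iff.mp h1
      haveI : IsIso i := isIso_of_isClosedImmersion_of_surjective i
      have hu : IsIso (toPushUnit i) := by
        rw [Scheme.Modules.Hom.isIso_iff_isIso_app]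
        intro U
        rw [ConcreteCategory.isIso_iff_bijective]
        exact ConcreteCategory.bijective_of_isIso (i.app U)
      let j : (Coh.push i).obj I ⟶ unitMod X := (Coh.push i).map ι ≫ inv (toPushUnit i)
      haveI : Mono j := mono_comp _ _
      have hQc : Coh.IsCoh (cokernel j) := isCoh_cokernel j hMc (Groth.Agent.LD.PF.isCoh_unitMod X)
      let S : ShortComplex X.Modules := ShortComplex.mk j (cokernel.π j) (cokernel.condition j)
      have hS : S.ShortExact :=
        { exact := ShortComplex.exact_cokernel j
          mono_f := inferInstanceAs (Mono j)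
          epi_g := inferInstanceAs (Epi (cokernel.π j)) }
      have hadd' := hadd S hS hMc (Groth.Agent.LD.PF.isCoh_unitMod X) hQc
      change φ (unitMod X) = φ ((Coh.push i).obj I) + φ (cokernel j) at hadd'
      rw [hunit] at hadd'
      by_cases htors' : IsTors (cokernel j)
      · rw [htors _ hQc htors', add_zero] at hadd'
        exact hadd'.symm
      · apply htors _ hMc
        have g := gdim_add S hS hMc hQc
        change gdim (unitMod X) = gdim ((Coh.push i).obj I) + gdim (cokernel j) at g
        rw [gdim_unit] at g
        letI : Field (X.presheaf.stalk (genericPoint X)) :=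
          inferInstanceAs (Field X.functionField)
        haveI := hQc.1
        haveI := hMc.1
        haveI : Module.Finite (X.presheaf.stalk (genericPoint X))
            ((cokernel j).presheaf.stalk (genericPoint X)) :=
          Groth.Agent.H1.CohLen.finite_stalk _ hQc.2 _
        haveI : Module.Finite (X.presheaf.stalk (genericPoint X))
            (((Coh.push i).obj I).presheaf.stalk (genericPoint X)) :=
          Groth.Agent.H1.CohLen.finite_stalk _ hMc.2 _
        have hpos : 0 < gdim (cokernel j) := by
          unfold gdim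
          rw [Module.finrank_pos_iff]
          exact not_subsingleton_iff_nontrivial.mp htors'
        have h0 : gdim ((Coh.push i).obj I) = 0 := by omega
        unfold IsTors
        unfold gdim at h0
        exact Module.finrank_zero_iff.mp h0
    · apply htors _ hMc
      unfold IsTors
      by_contra h
      exact hη (Groth.Agent.LD.PS.support_pushforward_subset i I h)

/-- an additive function killing torsion modules is the generic rank times its value at `O_X`. -/
theorem eq_gdim_smul [IsNoetherian X] {A : Type*} [AddCommGroup A] (φ : X.Modules → A)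
    (hiso : ∀ F F' : X.Modules, (F ≅ F') → φ F = φ F')
    (hadd : ∀ S : ShortComplex X.Modules, S.ShortExact → Coh.IsCoh S.X₁ → Coh.IsCoh S.X₂ →
      Coh.IsCoh S.X₃ → φ S.X₂ = φ S.X₁ + φ S.X₃)
    (htors : ∀ T : X.Modules, Coh.IsCoh T → IsTors T → φ T = 0)
    (F : X.Modules) (hF : Coh.IsCoh F) : φ F = gdim F • φ (unitMod X) := by
  have key := integral_devissage_grp (X := X) (fun F => φ F - gdim F • φ (unitMod X))
    ?_ ?_ ?_ ?_ F hF
  · exact sub_eq_zero.mp key
  · intro F F' e
    change φ F - gdim F • φ (unitMod X) = φ F' - gdim F' • φ (unitMod X)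
    rw [hiso F F' e, gdim_iso e]
  · intro S hS h1 h2 h3
    change φ S.X₂ - gdim S.X₂ • φ (unitMod X) = (φ S.X₁ - gdim S.X₁ • φ (unitMod X)) +
      (φ S.X₃ - gdim S.X₃ • φ (unitMod X))
    rw [hadd S hS h1 h2 h3, gdim_add S hS h1 h3, add_smul]
    abel
  · intro T hT ht
    change φ T - gdim T • φ (unitMod X) = 0
    rw [htors T hT ht, gdim_of_isTors ht]
    simp
  · change φ (unitMod X) - gdim (unitMod X) • φ (unitMod X) = 0
    rw [gdim_unit]
    simp

/-- tensoring with an invertible module does not change the value of an additive function killing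
torsion modules. -/
theorem eq_of_tensor_invertible [IsNoetherian X] {A : Type*} [AddCommGroup A] (φ : X.Modules → A)
    (hiso : ∀ F F' : X.Modules, (F ≅ F') → φ F = φ F')
    (hadd : ∀ S : ShortComplex X.Modules, S.ShortExact → Coh.IsCoh S.X₁ → Coh.IsCoh S.X₂ →
      Coh.IsCoh S.X₃ → φ S.X₂ = φ S.X₁ + φ S.X₃)
    (htors : ∀ T : X.Modules, Coh.IsCoh T → IsTors T → φ T = 0)
    (F : X.Modules) (hF : Coh.IsCoh F) (L : X.Modules) (hL : PicF.IsInvertible L) :
    φ (CohB1.tensorMod L F) = φ F := by
  have hL1 : FlatMod.IsFinLocFreeOfRank 1 L := (isInvertible_iff L).mp hL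
  have hLc := Curve.isCoh_of_rank hL1
  rw [eq_gdim_smul φ hiso hadd htors _ (isCoh_tensorMod hLc hF),
    eq_gdim_smul φ hiso hadd htors F hF, gdim_tensorMod 1 L hL1 F hF, one_mul]

end Groth.Agent.H5.Snap
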