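import Mathlib
import Groth.Agent.Lib.Helper5.DegC.IntNum
import Groth.Agent.Lib.Lead.QC.TensorExact

/-!
# The functors `F ↦ F ⊗ L_0^{n_0} ⊗ ⋯ ⊗ L_{r-1}^{n_{r-1}}`.
-/

set_option autoImplicit false
universe u
open CategoryTheory CategoryTheory.Limits AlgebraicGeometry TopologicalSpace Opposite

namespace Groth.Agent.H5.Snap

open Groth.Agent.LD Groth.Agent.LD.QC Groth.Agent.H5.Curve4 Groth.Agent.H5.DegC

variable {X : Scheme.{u}}

/-- the functor `F ↦ tensorPows F r L n`. -/
noncomputable def tpFun : (r : ℕ) → (Fin r → X.Modules) → (Fin r → ℕ) → (X.Modules ⥤ X.Modules)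
  | 0, _, _ => 𝟭 _
  | r + 1, L, n => tpFun r (fun i => L i.castSucc) (fun i => n i.castSucc) ⋙
      DCoh.tensorRightMod (CohB1.tensorPow (L (Fin.last r)) (n (Fin.last r)))

lemma tpFun_obj (F : X.Modules) : ∀ (r : ℕ) (L : Fin r → X.Modules) (n : Fin r → ℕ),
    (tpFun r L n).obj F = Curv2.tensorPows F r L n
  | 0, _, _ => rfl
  | r + 1, L, n => by
    change CohB1.tensorMod ((tpFun r _ _).obj F) _ = CohB1.tensorMod (Curv2.tensorPows F r _ _) _
    rw [tpFun_obj F r]

lemma tpFun_succ_obj (F : X.Modules) (r : ℕ) (L : Fin (r + 1) → X.Modules) (n : Fin (r + 1) → ℕ) :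
    (tpFun (r + 1) L n).obj F =
      CohB1.tensorMod ((tpFun r (fun i => L i.castSucc) (fun i => n i.castSucc)).obj F)
        (CohB1.tensorPow (L (Fin.last r)) (n (Fin.last r))) := rfl

instance tpFun_additive : ∀ (r : ℕ) (L : Fin r → X.Modules) (n : Fin r → ℕ),
    (tpFun r L n).Additive
  | 0, _, _ => inferInstanceAs (𝟭 X.Modules).Additive
  | r + 1, L, n => by
    haveI := tpFun_additive r (fun i => L i.castSucc) (fun i => n i.castSucc)
    exact inferInstanceAs (tpFun r (fun i => L i.castSucc) (fun i => n i.castSucc) ⋙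
      DCoh.tensorRightMod (CohB1.tensorPow (L (Fin.last r)) (n (Fin.last r)))).Additive

/-- tensoring on the right with an invertible module is exact. -/
theorem shortExact_map_tensorRightMod {S : ShortComplex X.Modules} (hS : S.ShortExact)
    (P : X.Modules) (hP : PicF.IsInvertible P) : (S.map (DCoh.tensorRightMod P)).ShortExact := by
  have h := shortExact_tensorMap_of_isInvertible hS P hP
  have e : S.map (DCoh.tensorRightMod P) ≅ ShortComplex.mk (KoszTw.tensorMap S.f (𝟙 P))
      (KoszTw.tensorMap S.g (𝟙 P))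
      (by rw [← tensorMap_comp_id, S.zero, tensorMap_zero_id hP]) :=
    ShortComplex.isoMk (Iso.refl _) (Iso.refl _) (Iso.refl _)
      (by
        change 𝟙 _ ≫ KoszTw.tensorMap S.f (𝟙 P) = (DCoh.tensorRightMod P).map S.f ≫ 𝟙 _
        rw [KoszTw.tensorRightMod_map, Category.comp_id, Category.id_comp])
      (by
        change 𝟙 _ ≫ KoszTw.tensorMap S.g (𝟙 P) = (DCoh.tensorRightMod P).map S.g ≫ 𝟙 _
        rw [KoszTw.tensorRightMod_map, Category.comp_id, Category.id_comp])
  exact ShortComplex.shortExact_of_iso e.symm h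

theorem shortExact_map_tpFun : ∀ (r : ℕ) (L : Fin r → X.Modules)
    (_ : ∀ i, PicF.IsInvertible (L i)) (n : Fin r → ℕ) (S : ShortComplex X.Modules),
    S.ShortExact → (S.map (tpFun r L n)).ShortExact
  | 0, _, _, _, S, hS => hS
  | r + 1, L, hL, n, S, hS => by
    have h1 := shortExact_map_tpFun r (fun i => L i.castSucc) (fun i => hL _)
      (fun i => n i.castSucc) S hS
    exact shortExact_map_tensorRightMod h1 _ (isInvertible_tensorPow (hL _) _)

theorem isCoh_of_isInvertible {L : X.Modules} (hL : PicF.IsInvertible L) : Coh.IsCoh L :=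
  Curve.isCoh_of_rank ((isInvertible_iff L).mp hL)

theorem isCoh_tpFun : ∀ (r : ℕ) (L : Fin r → X.Modules)
    (_ : ∀ i, PicF.IsInvertible (L i)) (n : Fin r → ℕ) (F : X.Modules),
    Coh.IsCoh F → Coh.IsCoh ((tpFun r L n).obj F)
  | 0, _, _, _, _, hF => hF
  | r + 1, L, hL, n, F, hF => by
    have h1 := isCoh_tpFun r (fun i => L i.castSucc) (fun i => hL _) (fun i => n i.castSucc) F hF
    exact isCoh_tensorMod' h1 (isCoh_of_isInvertible (isInvertible_tensorPow (hL _) _))

/-- moving a tensor factor out of `tpFun`. -/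
theorem nonempty_tp_tensor_iso : ∀ (r : ℕ) (L : Fin r → X.Modules)
    (_ : ∀ i, PicF.IsInvertible (L i)) (n : Fin r → ℕ) (E G : X.Modules),
    Coh.IsCoh E → Coh.IsCoh G →
    Nonempty ((tpFun r L n).obj (CohB1.tensorMod E G) ≅ CohB1.tensorMod E ((tpFun r L n).obj G))
  | 0, _, _, _, _, _, _, _ => ⟨Iso.refl _⟩
  | r + 1, L, hL, n, E, G, hE, hG => by
    obtain ⟨e⟩ := nonempty_tp_tensor_iso r (fun i => L i.castSucc) (fun i => hL _)
      (fun i => n i.castSucc) E G hE hG
    have h1 := isCoh_tpFun r (fun i => L i.castSucc) (fun i => hL _) (fun i => n i.castSucc) G hG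
    have hP := isCoh_of_isInvertible (isInvertible_tensorPow (hL (Fin.last r)) (n (Fin.last r)))
    haveI := hE.1
    haveI := h1.1
    haveI := hP.1
    exact ⟨tensorIso' e (Iso.refl _) ≪≫ tensorAssoc _ _ _⟩

/-- raising one exponent is tensoring with the corresponding module. -/
theorem nonempty_tp_succ_iso : ∀ (r : ℕ) (L : Fin r → X.Modules)
    (_ : ∀ i, PicF.IsInvertible (L i)) (n n' : Fin r → ℕ) (j : Fin r)
    (_ : ∀ i, n' i = n i + if i = j then 1 else 0) (G : X.Modules), Coh.IsCoh G →
    Nonempty ((tpFun r L n').obj G ≅ (tpFun r L n).obj (CohB1.tensorMod (L j) G))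
  | 0, _, _, _, _, j, _, _, _ => j.elim0
  | r + 1, L, hL, n, n', j, h, G, hG => by
    have hLc : ∀ i, Coh.IsCoh (L i) := fun i => isCoh_of_isInvertible (hL i)
    induction j using Fin.lastCases with
    | last =>
      have h1 : (fun i : Fin r => n' i.castSucc) = fun i : Fin r => n i.castSucc := by
        funext i
        rw [h i.castSucc, if_neg (Fin.castSucc_lt_last i).ne, add_zero]
      have h2 : n' (Fin.last r) = n (Fin.last r) + 1 := by rw [h, if_pos rfl]
      obtain ⟨e⟩ := nonempty_tp_tensor_iso (r + 1) L hL n (L (Fin.last r)) G (hLc _) hG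
      rw [tpFun_succ_obj G r L n', h1, h2]
      have hT := isCoh_tpFun r (fun i => L i.castSucc) (fun i => hL _) (fun i => n i.castSucc) G hG
      have hP := isCoh_of_isInvertible (isInvertible_tensorPow (hL (Fin.last r)) (n (Fin.last r)))
      haveI := hT.1
      haveI := hP.1
      haveI := (hLc (Fin.last r)).1
      refine ⟨?_ ≪≫ e.symm⟩
      change CohB1.tensorMod _ (CohB1.tensorMod (CohB1.tensorPow (L (Fin.last r)) (n (Fin.last r)))
        (L (Fin.last r))) ≅ _
      exact (tensorAssoc _ _ _).symm ≪≫ tensorCommAll _ _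
    | cast j' =>
      have h2 : n' (Fin.last r) = n (Fin.last r) := by
        rw [h, if_neg (Fin.castSucc_lt_last j').ne', add_zero]
      obtain ⟨e⟩ := nonempty_tp_succ_iso r (fun i => L i.castSucc) (fun i => hL _)
        (fun i => n i.castSucc) (fun i => n' i.castSucc) j'
        (fun i => by
          rw [h i.castSucc]
          simp only [Fin.castSucc_inj]) G hG
      rw [tpFun_succ_obj G r L n', h2]
      exact ⟨tensorIso' e (Iso.refl _)⟩

section push

variable {Z : Scheme.{u}} (i : Z ⟶ X) [IsClosedImmersion i]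

/-- `tpFun` commutes with pushforward along a closed immersion. -/
theorem nonempty_tp_push_iso : ∀ (r : ℕ) (L : Fin r → X.Modules)
    (_ : ∀ j, PicF.IsInvertible (L j)) (n : Fin r → ℕ) (G : Z.Modules),
    Nonempty ((tpFun r L n).obj ((Scheme.Modules.pushforward i).obj G) ≅
      (Scheme.Modules.pushforward i).obj
        ((tpFun r (fun j => (Scheme.Modules.pullback i).obj (L j)) n).obj G))
  | 0, _, _, _, _ => ⟨Iso.refl _⟩
  | r + 1, L, hL, n, G => by
    obtain ⟨e⟩ := nonempty_tp_push_iso r (fun j => L j.castSucc) (fun j => hL _)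
      (fun j => n j.castSucc) G
    have hP := isInvertible_tensorPow (hL (Fin.last r)) (n (Fin.last r))
    have hP' : FlatMod.IsFinLocFree (CohB1.tensorPow (L (Fin.last r)) (n (Fin.last r))) :=
      Curve.isFinLocFree_of_rank ((isInvertible_iff _).mp hP)
    refine ⟨tensorIso' e (Iso.refl _) ≪≫ tensorCommAll _ _ ≪≫ (projIsoL i _ hP').app _ ≪≫
      (Scheme.Modules.pushforward i).mapIso (tensorCommAll _ _ ≪≫
        tensorIso' (Iso.refl _) (pbTensorPowIso i _ (hL (Fin.last r)) _))⟩

end push

end Groth.Agent.H5.Snap
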