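import Mathlib
import Groth.Agent.Lib.Helper5.Snap.Arith
import Groth.Agent.Lib.Helper5.Snap.DimDrop
import Groth.Agent.Lib.Helper5.Snap.IntGrp
import Groth.Agent.Lib.Helper5.Snap.TP
import Groth.Agent.Lib.Lead.QC.SuppSES

/-!
# Auxiliary lemmas for Snapper's theorem.
-/

set_option autoImplicit false
universe u
open CategoryTheory CategoryTheory.Limits AlgebraicGeometry TopologicalSpace Opposite

namespace Groth.Agent.H5.Snap

open Groth.Agent.LD Groth.Agent.LD.QC Groth.Agent.H5.Curve4 Groth.Agent.H5.DegC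

lemma le_of_lt_succ_coe {x : WithBot ℕ∞} {d : ℕ} (h : x < ((d + 1 : ℕ) : WithBot ℕ∞)) :
    x ≤ (d : WithBot ℕ∞) := by
  induction x using WithBot.recBotCoe with
  | bot => exact bot_le
  | coe n =>
    induction n using ENat.recTopCoe with
    | top =>
      exfalso
      have h' : ((⊤ : ℕ∞) : WithBot ℕ∞) < (((d + 1 : ℕ) : ℕ∞) : WithBot ℕ∞) := h
      rw [WithBot.coe_lt_coe] at h'
      exact (not_top_lt h').elim
    | coe m =>
      have h' : (((m : ℕ) : ℕ∞) : WithBot ℕ∞) < (((d + 1 : ℕ) : ℕ∞) : WithBot ℕ∞) := h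
      rw [WithBot.coe_lt_coe, Nat.cast_lt] at h'
      have : m ≤ d := by omega
      have h2 : ((m : ℕ∞) : WithBot ℕ∞) ≤ ((d : ℕ∞) : WithBot ℕ∞) := by
        rw [WithBot.coe_le_coe, Nat.cast_le]
        exact this
      exact h2

lemma lt_succ_coe_of_le {x : WithBot ℕ∞} {d : ℕ} (h : x ≤ (d : WithBot ℕ∞)) :
    x < ((d + 1 : ℕ) : WithBot ℕ∞) := by
  refine lt_of_le_of_lt h ?_
  have : ((d : ℕ∞) : WithBot ℕ∞) < (((d + 1 : ℕ) : ℕ∞) : WithBot ℕ∞) := by
    rw [WithBot.coe_lt_coe, Nat.cast_lt]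
    omega
  exact this

section general

variable {X : Scheme.{u}}

/-- the support of a direct image along an embedding contains the image of the support. -/
theorem mem_support_pushforward {Z : Scheme.{u}} (i : Z ⟶ X) [IsPreimmersion i]
    (M : Z.Modules) (z : Z) (hz : z ∈ CohB1.support M) :
    i z ∈ CohB1.support ((Scheme.Modules.pushforward i).obj M) := by
  intro hsub
  apply hz
  apply subsingleton_of_forall_eq_zero
  intro c
  obtain ⟨V, hV, m, rfl⟩ := TopCat.Presheaf.exists_germ_eq _ c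
  obtain ⟨W', hW'o, hW'eq⟩ := i.isEmbedding.isInducing.isOpen_iff.mp V.2
  let W : X.Opens := ⟨W', hW'o⟩
  have hle : i ⁻¹ᵁ W ≤ V := by
    intro y hy
    have : y ∈ i ⁻¹' W' := hy
    rw [hW'eq] at this
    exact this
  have hzW : z ∈ i ⁻¹ᵁ W := by
    change z ∈ i ⁻¹' W'
    rw [hW'eq]
    exact hV
  rw [← germ_res M z hle hzW m]
  set m' : Γ(M, i ⁻¹ᵁ W) := M.presheaf.map (homOfLE hle).op m with hm'
  have h0 : ((Scheme.Modules.pushforward i).obj M).presheaf.germ W (i z) hzW
      (show Γ((Scheme.Modules.pushforward i).obj M, W) from m') = 0 := Subsingleton.elim _ _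
  obtain ⟨W'', hW'', hzW'', hres⟩ :=
    exists_res_eq_zero_of_germ_eq_zero ((Scheme.Modules.pushforward i).obj M) (i z) hzW _ h0
  have hle2 : i ⁻¹ᵁ W'' ≤ i ⁻¹ᵁ W := i.preimage_mono hW''
  rw [← germ_res M z hle2 hzW'' m']
  have h1 : M.presheaf.map (homOfLE hle2).op m' = 0 := hres
  rw [h1]
  exact map_zero _

/-- a submodule of the structure sheaf of an integral scheme that vanishes at the generic point is
zero. -/
theorem isZero_of_mono_unit_of_isTors [IsIntegral X] (I : X.Modules) (ι : I ⟶ unitMod X) [Mono ι]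
    (h : IsTors I) : IsZero I := by
  apply isZero_of_forall_sections
  intro U s
  by_cases hU : (U : Set X).Nonempty
  · have hη : genericPoint X ∈ U :=
      ((genericPoint_spec X).mem_open_set_iff U.2).mpr (by simpa using hU)
    apply mono_app ι U
    rw [map_zero]
    have h0 : I.presheaf.germ U (genericPoint X) hη s = 0 := h.elim _ _
    have h1 : (unitMod X).presheaf.germ U (genericPoint X) hη (ι.app U s) = 0 := by
      rw [← stalkMap_germ ι (genericPoint X) U hη s, h0]
      exact map_zero _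
    obtain ⟨W, hW, hηW, hres⟩ :=
      exists_res_eq_zero_of_germ_eq_zero (unitMod X) (genericPoint X) hη _ h1
    haveI : Nonempty W := ⟨⟨_, hηW⟩⟩
    have hinj := map_injective_of_isIntegral X (homOfLE hW)
    refine @hinj (show Γ(X, U) from ι.app U s) 0 ?_
    exact hres.trans (map_zero (X.presheaf.map (homOfLE hW).op).hom).symm
  · have hbot : U ≤ ⊥ := by
      intro x hx
      exact (hU ⟨x, hx⟩).elim
    exact section_eq_zero_of_le_bot I hbot s

end general

variable (k : Type u) [Field k] (X : Scheme.{u}) [X.Over (Spec (CommRingCat.of k))]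

/-- the Euler characteristic function `n ↦ χ(F ⊗ L^n)`. -/
noncomputable def chiFn (r : ℕ) (L : Fin r → X.Modules) (F : X.Modules) : (Fin r → ℕ) → ℚ :=
  fun n => (Curv2.euler k X ((tpFun r L n).obj F) : ℚ)

variable {X}

lemma chiFn_iso (r : ℕ) (L : Fin r → X.Modules) {F F' : X.Modules} (e : F ≅ F') :
    chiFn k X r L F = chiFn k X r L F' := by
  funext n
  unfold chiFn
  rw [Curve.euler_iso k X ((tpFun r L n).mapIso e)]

lemma chiFn_isZero (r : ℕ) (L : Fin r → X.Modules) {F : X.Modules} (h : IsZero F) :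
    chiFn k X r L F = 0 := by
  funext n
  unfold chiFn
  rw [Curve.euler_of_isZero k X ((tpFun r L n).map_isZero h)]
  simp

/-- raising an exponent. -/
lemma chiFn_succ (r : ℕ) (L : Fin r → X.Modules) (hL : ∀ i, PicF.IsInvertible (L i))
    (F : X.Modules) (hF : Coh.IsCoh F) (j : Fin r) (n : Fin r → ℕ) :
    chiFn k X r L F (n + Pi.single j 1) = chiFn k X r L (CohB1.tensorMod (L j) F) n := by
  obtain ⟨e⟩ := nonempty_tp_succ_iso r L hL n (n + Pi.single j 1) j
    (fun i => by simp [Pi.single_apply]) F hF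
  unfold chiFn
  rw [Curve.euler_iso k X e]

/-- pushing forward along a closed immersion. -/
lemma chiFn_push {Z : Scheme.{u}} (i : Z ⟶ X) [IsClosedImmersion i] (r : ℕ)
    (L : Fin r → X.Modules) (hL : ∀ i, PicF.IsInvertible (L i)) (G : Z.Modules) :
    chiFn k X r L ((Scheme.Modules.pushforward i).obj G) =
      @chiFn k _ Z (overOf k i) r (fun j => (Scheme.Modules.pullback i).obj (L j)) G := by
  funext n
  obtain ⟨e⟩ := nonempty_tp_push_iso i r L hL n G
  unfold chiFn
  rw [Curve.euler_iso k X e, euler_push k i]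

variable [IsProper (X ↘ Spec (CommRingCat.of k))]

lemma chiFn_add (r : ℕ) (L : Fin r → X.Modules) (hL : ∀ i, PicF.IsInvertible (L i))
    (S : ShortComplex X.Modules) (hS : S.ShortExact) (h₁ : Coh.IsCoh S.X₁)
    (h₂ : Coh.IsCoh S.X₂) (h₃ : Coh.IsCoh S.X₃) :
    chiFn k X r L S.X₂ = chiFn k X r L S.X₁ + chiFn k X r L S.X₃ := by
  funext n
  have h := Curve.euler_add k X (S.map (tpFun r L n)) (shortExact_map_tpFun r L hL n S hS)
    (isCoh_tpFun r L hL n _ h₁) (isCoh_tpFun r L hL n _ h₂) (isCoh_tpFun r L hL n _ h₃)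
  change Curv2.euler k X ((tpFun r L n).obj S.X₂) = Curv2.euler k X ((tpFun r L n).obj S.X₁) +
    Curv2.euler k X ((tpFun r L n).obj S.X₃) at h
  unfold chiFn
  rw [Pi.add_apply, h]
  push_cast
  rfl

end Groth.Agent.H5.Snap
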