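import Mathlib
import Groth.Agent.Lib.Helper5.Snap.SnapAux

/-!
# Integral closed subschemes: the vanishing ideal and the length at the generic point.
-/

set_option autoImplicit false
universe u
open CategoryTheory CategoryTheory.Limits AlgebraicGeometry TopologicalSpace Opposite

namespace Groth.Agent.H5.Snap

open Groth.Agent.LD Groth.Agent.LD.QC Groth.Agent.H5.Curve4 Groth.Agent.H5.DegC

variable {X : Scheme.{u}}

/-- the ideal sheaf of a reduced closed subscheme is radical. -/
theorem radical_eq_of_isReduced (C : X.IdealSheafData) [IsReduced C.subscheme] :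
    C.radical = C := by
  ext U : 2
  rw [Scheme.IdealSheafData.radical_ideal]
  apply le_antisymm
  · intro a ha
    rw [← C.ker_subschemeι_app U] at ha ⊢
    obtain ⟨n, hn⟩ := ha
    rw [RingHom.mem_ker] at hn ⊢
    rw [map_pow] at hn
    exact IsReduced.eq_zero _ ⟨n, hn⟩
  · exact Ideal.le_radical

/-- the support of an integral closed subscheme is the closure of its generic point. -/
theorem support_eq_closure_of_isIntegral (C : X.IdealSheafData) [IsIntegral C.subscheme] :
    (C.support : Set X) = closure {C.subschemeι (genericPoint C.subscheme)} := by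
  rw [← C.range_subschemeι, ← Set.image_univ, ← (genericPoint_spec C.subscheme).def,
    ← C.subschemeι.isClosedEmbedding.closure_image_eq, Set.image_singleton]

/-- an integral closed subscheme is defined by the vanishing ideal of the closure of its generic
point. -/
theorem eq_vanishingIdeal_of_isIntegral (C : X.IdealSheafData) [IsIntegral C.subscheme] :
    Scheme.IdealSheafData.vanishingIdeal
      (⟨closure {C.subschemeι (genericPoint C.subscheme)}, isClosed_closure⟩ : Closeds X) = C := by
  have h : (⟨closure {C.subschemeι (genericPoint C.subscheme)}, isClosed_closure⟩ : Closeds X) =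
      C.support := by
    apply Closeds.ext
    exact (support_eq_closure_of_isIntegral C).symm
  rw [h, Scheme.IdealSheafData.vanishingIdeal_support, radical_eq_of_isReduced]

lemma exists_smul_germ_eq {C : Scheme.{u}} (i : C ⟶ X) [IsClosedImmersion i]
    [IsIntegral C] (I : C.Modules) (ι : I ⟶ unitMod C) [Mono ι] (U : X.Opens)
    (hU : IsAffineOpen U) (hηU : i (genericPoint C) ∈ U)
    (s t : Γ((Scheme.Modules.pushforward i).obj I, U))
    (hy : ((Scheme.Modules.pushforward i).obj I).presheaf.germ U (i (genericPoint C)) hηU s ≠ 0) :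
    ∃ r : X.presheaf.stalk (i (genericPoint C)),
      r • ((Scheme.Modules.pushforward i).obj I).presheaf.germ U (i (genericPoint C)) hηU s =
        ((Scheme.Modules.pushforward i).obj I).presheaf.germ U (i (genericPoint C)) hηU t := by
  have hsurj := i.app_surjective U hU
  let sV : Γ(I, i ⁻¹ᵁ U) := s
  let tV : Γ(I, i ⁻¹ᵁ U) := t
  let s' : Γ(C, i ⁻¹ᵁ U) := ι.app (i ⁻¹ᵁ U) sV
  let t' : Γ(C, i ⁻¹ᵁ U) := ι.app (i ⁻¹ᵁ U) tV
  obtain ⟨a, ha⟩ := hsurj s'
  obtain ⟨b, hb⟩ := hsurj t'
  have key' : (i.app U a) • tV = (i.app U b) • sV := by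
    apply mono_app ι (i ⁻¹ᵁ U)
    rw [Scheme.Modules.Hom.app_smul, Scheme.Modules.Hom.app_smul, ha, hb]
    exact mul_comm s' t'
  have key : a • t = b • s := key'
  have hs0 : s' ≠ 0 := by
    intro h0
    apply hy
    have : sV = 0 := mono_app ι (i ⁻¹ᵁ U) (h0.trans (map_zero _).symm)
    have hs' : s = 0 := this
    rw [hs']
    exact map_zero _
  have hmem : i (genericPoint C) ∈ X.basicOpen a := by
    have h1 : genericPoint C ∈ C.basicOpen (i.app U a) := by
      rw [ha]
      have hne : C.basicOpen s' ≠ ⊥ := by
        intro hbot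
        exact hs0 ((basicOpen_eq_bot_iff s').mp hbot)
      have hne' : ((C.basicOpen s' : C.Opens) : Set C).Nonempty := by
        rw [Set.nonempty_iff_ne_empty]
        intro h
        apply hne
        ext x
        simp [h]
      exact ((genericPoint_spec C).mem_open_set_iff (C.basicOpen _).2).mpr
        (by simpa using hne')
    have h2 : genericPoint C ∈ i ⁻¹ᵁ (X.basicOpen a) := by
      rw [Scheme.preimage_basicOpen]
      exact h1
    exact h2
  have hu : IsUnit (X.presheaf.germ U (i (genericPoint C)) hηU a) :=
    (X.mem_basicOpen a (i (genericPoint C)) hηU).mp hmem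
  obtain ⟨u, hu'⟩ := hu
  refine ⟨(↑u⁻¹ : X.presheaf.stalk (i (genericPoint C))) *
    X.presheaf.germ U (i (genericPoint C)) hηU b, ?_⟩
  have e1 : ((Scheme.Modules.pushforward i).obj I).presheaf.germ U (i (genericPoint C)) hηU (a • t) =
      X.presheaf.germ U (i (genericPoint C)) hηU a •
        ((Scheme.Modules.pushforward i).obj I).presheaf.germ U (i (genericPoint C)) hηU t :=
    germ_smul ((Scheme.Modules.pushforward i).obj I) (i (genericPoint C)) U hηU a t
  have e2 : ((Scheme.Modules.pushforward i).obj I).presheaf.germ U (i (genericPoint C)) hηU (b • s) =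
      X.presheaf.germ U (i (genericPoint C)) hηU b •
        ((Scheme.Modules.pushforward i).obj I).presheaf.germ U (i (genericPoint C)) hηU s :=
    germ_smul ((Scheme.Modules.pushforward i).obj I) (i (genericPoint C)) U hηU b s
  rw [mul_smul, ← e2, ← key, e1, ← hu', ← mul_smul]
  simp

/-- the stalk at the generic point of the direct image of a nonzero ideal of an integral closed
subscheme is a simple module. -/
theorem isSimpleModule_stalk_push {C : Scheme.{u}} (i : C ⟶ X) [IsClosedImmersion i]
    [IsIntegral C] (I : C.Modules) (ι : I ⟶ unitMod C) [Mono ι] (hI : ¬ IsTors I) :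
    IsSimpleModule (X.presheaf.stalk (i (genericPoint C)))
      (((Scheme.Modules.pushforward i).obj I).presheaf.stalk (i (genericPoint C))) := by
  rw [isSimpleModule_iff_toSpanSingleton_surjective]
  constructor
  · exact not_subsingleton_iff_nontrivial.mp (mem_support_pushforward i I _ hI)
  · intro y hy z
    obtain ⟨U₁, h₁, s₁, rfl⟩ := TopCat.Presheaf.exists_germ_eq _ y
    obtain ⟨U₂, h₂, t₂, rfl⟩ := TopCat.Presheaf.exists_germ_eq _ z
    obtain ⟨U, hU, hηU, hle⟩ :=
      exists_isAffineOpen_mem_and_subset (x := i (genericPoint C)) (U := U₁ ⊓ U₂) ⟨h₁, h₂⟩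
    have hle₁ : U ≤ U₁ := fun x hx => (hle hx).1
    have hle₂ : U ≤ U₂ := fun x hx => (hle hx).2
    rw [← germ_res _ (i (genericPoint C)) hle₁ hηU s₁] at hy ⊢
    rw [← germ_res _ (i (genericPoint C)) hle₂ hηU t₂]
    obtain ⟨r, hr⟩ := exists_smul_germ_eq i I ι U hU hηU _ _ hy
    exact ⟨r, hr⟩

end Groth.Agent.H5.Snap
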