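import Mathlib
import Groth.Agent.Lib.Helper5.Snap.SnapAux
import Groth.Agent.Lib.Helper5.DegC.DevIdeal

/-!
# Snapper's theorem: `χ(F ⊗ L^n)` is a polynomial of degree `≤ dim Supp F`.
-/

set_option autoImplicit false
universe u
open CategoryTheory CategoryTheory.Limits AlgebraicGeometry TopologicalSpace Opposite

namespace Groth.Agent.H5.Snap

open Groth.Agent.LD Groth.Agent.LD.QC Groth.Agent.H5.Curve4 Groth.Agent.H5.DegC

variable (k : Type u) [Field k]

lemma dim_mono {T : Type*} [TopologicalSpace T] {s t : Set T} (h : s ⊆ t) :
    topologicalKrullDim s ≤ topologicalKrullDim t :=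
  (Topology.IsEmbedding.inclusion h).isInducing.topologicalKrullDim_le

/-- **Snapper**: if `dim Supp F < d` then `n ↦ χ(F ⊗ L^n)` is a polynomial function of degree
`< d`. -/
theorem snapper_aux (d : ℕ) : ∀ (X : Scheme.{u}) [X.Over (Spec (CommRingCat.of k))]
    [IsProper (X ↘ Spec (CommRingCat.of k))] (F : X.Modules), Coh.IsCoh F →
    topologicalKrullDim (CohB1.support F) < (d : WithBot ℕ∞) →
    ∀ (r : ℕ) (L : Fin r → X.Modules), (∀ i, PicF.IsInvertible (L i)) →
      chiFn k X r L F ∈ PolLT r d := by
  induction d with
  | zero =>
    intro X _ _ F hF hsupp r L hL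
    have hempty : CohB1.support F = ∅ := by
      by_contra hne
      obtain ⟨x, hx⟩ := Set.nonempty_iff_ne_empty.mpr hne
      unfold topologicalKrullDim at hsupp
      rw [Order.krullDim_lt_coe_iff] at hsupp
      have := hsupp (RelSeries.singleton _
        ⟨closure {(⟨x, hx⟩ : CohB1.support F)}, isIrreducible_singleton.closure, isClosed_closure⟩)
      simp at this
    rw [chiFn_isZero k r L (isZero_of_support_eq_empty hempty)]
    exact Submodule.zero_mem _
  | succ d ih =>
    intro X _ _ F hF hsupp r L hL
    rcases isEmpty_or_nonempty X with he | hne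
    · have : chiFn k X r L F = 0 := by
        funext n
        unfold chiFn
        rw [euler_eq_zero_of_isEmpty k]
        simp
      rw [this]
      exact Submodule.zero_mem _
    haveI : IsNoetherian X := Curve2.isNoetherian_of_proper k X
    refine devissage_ideal X (fun F => topologicalKrullDim (CohB1.support F) <
      ((d + 1 : ℕ) : WithBot ℕ∞) → chiFn k X r L F ∈ PolLT r (d + 1)) ?_ ?_ ?_ F hF hsupp
    · rintro M N ⟨e⟩ h hs
      rw [← chiFn_iso k r L e]
      apply h
      rw [support_eq_of_iso e]
      exact hs
    · intro S hS h1 h2 h3 p1 p3 hs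
      change chiFn k X r L S.X₂ ∈ PolLT r (d + 1)
      rw [chiFn_add k r L hL S hS h1 h2 h3]
      have hsupp2 := support_of_shortExact hS
      apply Submodule.add_mem
      · apply p1
        refine lt_of_le_of_lt (dim_mono ?_) hs
        rw [hsupp2]
        exact Set.subset_union_left
      · apply p3
        refine lt_of_le_of_lt (dim_mono ?_) hs
        rw [hsupp2]
        exact Set.subset_union_right
    · intro C hC I ι hι hI hs
      haveI := hC
      haveI := hι
      haveI : I.IsQuasicoherent := hI
      letI : C.subscheme.Over (Spec (CommRingCat.of k)) := overOf k C.subschemeι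
      haveI : IsProper (C.subscheme ↘ Spec (CommRingCat.of k)) :=
        inferInstanceAs (IsProper (C.subschemeι ≫ (X ↘ Spec (CommRingCat.of k))))
      haveI : IsNoetherian C.subscheme := Curve2.isNoetherian_of_proper k C.subscheme
      have hIc : Coh.IsCoh I := isCoh_of_mono ι hI (Groth.Agent.LD.PF.isCoh_unitMod C.subscheme)
      have hL' : ∀ j, PicF.IsInvertible ((Scheme.Modules.pullback C.subschemeι).obj (L j)) :=
        fun j => isInvertible_pullback C.subschemeι (hL j)
      change chiFn k X r L ((Scheme.Modules.pushforward C.subschemeι).obj I) ∈ PolLT r (d + 1)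
      rw [chiFn_push k C.subschemeι r L hL I]
      by_cases ht : IsTors I
      · rw [chiFn_isZero k r _ (isZero_of_mono_unit_of_isTors I ι ht)]
        exact Submodule.zero_mem _
      · have hcl : IsClosed (CohB1.support I) := QC.isClosed_support_of_isFiniteType I hIc.2
        have huniv : CohB1.support I = Set.univ := by
          have hη : genericPoint C.subscheme ∈ CohB1.support I := ht
          have h1 : closure {genericPoint C.subscheme} ⊆ CohB1.support I :=
            hcl.closure_subset_iff.mpr (Set.singleton_subset_iff.mpr hη)
          rw [(genericPoint_spec C.subscheme).def] at h1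
          exact Set.univ_subset_iff.mp h1
        have hdimC : topologicalKrullDim C.subscheme ≤ d := by
          apply le_of_lt_succ_coe
          refine lt_of_le_of_lt ?_ hs
          let g : C.subscheme → CohB1.support ((Coh.push C.subschemeι).obj I) := fun z =>
            ⟨C.subschemeι z, mem_support_pushforward C.subschemeι I z (by rw [huniv]; trivial)⟩
          have hg : Topology.IsInducing g := by
            apply Topology.IsInducing.of_comp
              (Continuous.subtype_mk C.subschemeι.continuous _) continuous_subtype_val
            exact C.subschemeι.isClosedEmbedding.isInducing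
          exact hg.topologicalKrullDim_le
        let S : AddSubgroup ((Fin r → ℕ) → ℚ) := (PolLT r d).toAddSubgroup
        let φ : C.subscheme.Modules → ((Fin r → ℕ) → ℚ) ⧸ S := fun G =>
          QuotientAddGroup.mk (chiFn k C.subscheme r
            (fun j => (Scheme.Modules.pullback C.subschemeι).obj (L j)) G)
        have hiso : ∀ F F' : C.subscheme.Modules, (F ≅ F') → φ F = φ F' := by
          intro F F' e
          change QuotientAddGroup.mk _ = QuotientAddGroup.mk _
          rw [chiFn_iso k r _ e]
        have hadd : ∀ T : ShortComplex C.subscheme.Modules, T.ShortExact → Coh.IsCoh T.X₁ →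
            Coh.IsCoh T.X₂ → Coh.IsCoh T.X₃ → φ T.X₂ = φ T.X₁ + φ T.X₃ := by
          intro T hT h1 h2 h3
          change QuotientAddGroup.mk _ = QuotientAddGroup.mk _ + QuotientAddGroup.mk _
          rw [chiFn_add k r _ hL' T hT h1 h2 h3]
          rfl
        have htors : ∀ T : C.subscheme.Modules, Coh.IsCoh T → IsTors T → φ T = 0 := by
          intro T hT ht'
          change QuotientAddGroup.mk _ = 0
          rw [QuotientAddGroup.eq_zero_iff]
          apply ih C.subscheme T hT ?_ r _ hL'
          apply dim_lt_of_isClosed_ne_univ _ (QC.isClosed_support_of_isFiniteType T hT.2) ?_ d hdimC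
          intro (hu : CohB1.support T = Set.univ)
          have : genericPoint C.subscheme ∈ CohB1.support T := by rw [hu]; trivial
          exact this ht'
        apply mem_PolLT_succ_of_diff
        intro j
        have key := eq_of_tensor_invertible φ hiso hadd htors I hIc _ (hL' j)
        have e1 : (fun n => chiFn k C.subscheme r
            (fun j => (Scheme.Modules.pullback C.subschemeι).obj (L j)) I (n + Pi.single j 1) -
            chiFn k C.subscheme r (fun j => (Scheme.Modules.pullback C.subschemeι).obj (L j)) I n) =
            chiFn k C.subscheme r (fun j => (Scheme.Modules.pullback C.subschemeι).obj (L j))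
              (CohB1.tensorMod ((Scheme.Modules.pullback C.subschemeι).obj (L j)) I) -
            chiFn k C.subscheme r (fun j => (Scheme.Modules.pullback C.subschemeι).obj (L j)) I := by
          funext n
          rw [chiFn_succ k r _ hL' I hIc j n]
          rfl
        rw [e1]
        have h0 : (QuotientAddGroup.mk (chiFn k C.subscheme r
            (fun j => (Scheme.Modules.pullback C.subschemeι).obj (L j))
              (CohB1.tensorMod ((Scheme.Modules.pullback C.subschemeι).obj (L j)) I) -
            chiFn k C.subscheme r (fun j => (Scheme.Modules.pullback C.subschemeι).obj (L j)) I) :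
              ((Fin r → ℕ) → ℚ) ⧸ S) = 0 := by
          rw [QuotientAddGroup.mk_sub]
          exact sub_eq_zero.mpr key
        exact (QuotientAddGroup.eq_zero_iff _).mp h0

variable {X : Scheme.{u}} [X.Over (Spec (CommRingCat.of k))]
  [IsProper (X ↘ Spec (CommRingCat.of k))]

/-- **Snapper's theorem** (S1528). -/
theorem snapper (F : X.Modules) (hF : Coh.IsCoh F) (d : ℕ)
    (hsupp : topologicalKrullDim (CohB1.support F) ≤ d) (r : ℕ) (L : Fin r → X.Modules)
    (hL : ∀ i, PicF.IsInvertible (L i)) :
    ∃ P : MvPolynomial (Fin r) ℚ, P.totalDegree ≤ d ∧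
      ∀ n : Fin r → ℕ, (Curv2.euler k X (Curv2.tensorPows F r L n) : ℚ) =
        MvPolynomial.eval (fun i => (n i : ℚ)) P := by
  have h := snapper_aux k (d + 1) X F hF (lt_succ_coe_of_le hsupp) r L hL
  obtain ⟨P, hP1, hP2⟩ := exists_poly_of_mem _ h
  refine ⟨P, ?_, ?_⟩
  · unfold MvPolynomial.totalDegree
    apply Finset.sup_le
    intro m hm
    exact Nat.lt_succ_iff.mp (hP1 m hm)
  · intro n
    rw [← hP2 n, ← tpFun_obj]
    rfl

end Groth.Agent.H5.Snap
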