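import Mathlib
import Groth.Agent.Lib.Helper5.Snap.Integral
import Groth.Agent.Lib.Helper5.Snap.Main
import Groth.Agent.Lib.Helper1.CohLen

/-!
# Preliminaries on multiplicities at generic points.
-/

set_option autoImplicit false
universe u
open CategoryTheory CategoryTheory.Limits AlgebraicGeometry TopologicalSpace Opposite

namespace Groth.Agent.H5.Snap

open Groth.Agent.LD Groth.Agent.LD.QC Groth.Agent.H5.Curve4 Groth.Agent.H5.DegC

/-- a point of `closure {η}` whose closure has the same finite dimension is `η`. -/
theorem eq_of_dim_closure_eq {T : Type*} [TopologicalSpace T] [T0Space T] (ξ η : T)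
    (h : ξ ∈ closure ({η} : Set T)) (d : ℕ)
    (hη : topologicalKrullDim (closure ({η} : Set T)) ≤ d)
    (hξ : topologicalKrullDim (closure ({ξ} : Set T)) = d) : ξ = η := by
  by_contra hne
  haveI : IrreducibleSpace (closure ({η} : Set T)) := by
    rw [← isIrreducible_iff_irreducibleSpace] -- may need adjusting
    exact isIrreducible_singleton.closure
  let Z : Set (closure ({η} : Set T)) := Subtype.val ⁻¹' closure ({ξ} : Set T)
  have hZc : IsClosed Z := isClosed_closure.preimage continuous_subtype_val
  have hZne : Z ≠ Set.univ := by
    intro hu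
    apply hne
    have hmem : (⟨η, subset_closure rfl⟩ : closure ({η} : Set T)) ∈ Z := by rw [hu]; trivial
    have h1 : η ∈ closure ({ξ} : Set T) := hmem
    have hs1 : ξ ⤳ η := specializes_iff_mem_closure.mpr h1
    have hs2 : η ⤳ ξ := specializes_iff_mem_closure.mpr h
    exact (hs1.antisymm hs2).eq
  have hlt := dim_lt_of_isClosed_ne_univ Z hZc hZne d hη
  have hle : topologicalKrullDim (closure ({ξ} : Set T)) ≤ topologicalKrullDim Z := by
    have hsub : closure ({ξ} : Set T) ⊆ closure ({η} : Set T) :=
      closure_minimal (Set.singleton_subset_iff.mpr h) isClosed_closure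
    let g : closure ({ξ} : Set T) → Z := fun x => ⟨⟨x.1, hsub x.2⟩, x.2⟩
    have hg : Topology.IsInducing g := by
      have h1 : Topology.IsInducing ((Subtype.val : closure ({η} : Set T) → T) ∘
          ((Subtype.val : Z → closure ({η} : Set T)) ∘ g)) := Topology.IsInducing.subtypeVal
      have hc : Continuous g :=
        Continuous.subtype_mk (Continuous.subtype_mk continuous_subtype_val _) _
      have h2 : Topology.IsInducing ((Subtype.val : Z → closure ({η} : Set T)) ∘ g) :=
        Topology.IsInducing.of_comp (continuous_subtype_val.comp hc) continuous_subtype_val h1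
      exact Topology.IsInducing.of_comp hc continuous_subtype_val h2
    exact hg.topologicalKrullDim_le
  rw [hξ] at hle
  exact absurd (lt_of_le_of_lt hle hlt) (lt_irrefl _)

variable {X : Scheme.{u}}

/-- isomorphic modules have stalks of the same length. -/
theorem length_stalk_iso {M N : X.Modules} (e : M ≅ N) (x : X) :
    Module.length (X.presheaf.stalk x) (M.presheaf.stalk x) =
      Module.length (X.presheaf.stalk x) (N.presheaf.stalk x) := by
  have hb : Function.Bijective (Groth.Agent.H1.CohLen.stalkLin e.hom x) :=
    ⟨Groth.Agent.H1.CohLen.stalkFun_injective_of_mono e.hom x,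
      Groth.Agent.H1.CohLen.stalkFun_surjective_of_epi e.hom x⟩
  exact (LinearEquiv.ofBijective _ hb).length_eq

/-- the stalk length vanishes outside the support. -/
theorem length_stalk_eq_zero {M : X.Modules} {x : X} (h : x ∉ CohB1.support M) :
    Module.length (X.presheaf.stalk x) (M.presheaf.stalk x) = 0 := by
  have : Subsingleton (M.presheaf.stalk x) := not_not.mp h
  exact Module.length_eq_zero

end Groth.Agent.H5.Snap
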