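import Mathlib
import Groth.Agent.Lib.Helper5.Snap.Cycle0

/-!
# The leading term of `χ(F ⊗ L^n)` is governed by the top dimensional cycle of `F`.
-/

set_option autoImplicit false
universe u
open CategoryTheory CategoryTheory.Limits AlgebraicGeometry TopologicalSpace Opposite

namespace Groth.Agent.H5.Snap

open Groth.Agent.LD Groth.Agent.LD.QC Groth.Agent.H5.Curve4 Groth.Agent.H5.DegC

variable (k : Type u) [Field k] {X : Scheme.{u}} [X.Over (Spec (CommRingCat.of k))]

/-- `n ↦ χ(Z, O_Z ⊗ L|_Z^n)` for the closed subscheme `Z = V(I)`. -/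
noncomputable def cOf (r : ℕ) (L : Fin r → X.Modules) (V : X.IdealSheafData) : (Fin r → ℕ) → ℚ :=
  @chiFn k _ V.subscheme (overOf k V.subschemeι) r
    (fun j => (Scheme.Modules.pullback V.subschemeι).obj (L j)) (unitMod V.subscheme)

/-- the reduced closed subscheme `closure {ξ}`. -/
noncomputable abbrev vI (ξ : X) : X.IdealSheafData :=
  Scheme.IdealSheafData.vanishingIdeal (⟨closure ({ξ} : Set X), isClosed_closure⟩ : Closeds X)

/-- the multiplicity of `F` at the points whose closure has dimension `d`. -/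
noncomputable def mult (d : ℕ) (F : X.Modules) (ξ : X) : ℕ :=
  if topologicalKrullDim (closure ({ξ} : Set X)) = (d : WithBot ℕ∞) then
    (Module.length (X.presheaf.stalk ξ) (F.presheaf.stalk ξ)).toNat else 0

/-- the cycle sum. -/
noncomputable def cycFn (d r : ℕ) (L : Fin r → X.Modules) (F : X.Modules) : (Fin r → ℕ) → ℚ :=
  fun n => ∑ᶠ ξ : X, (mult d F ξ : ℚ) * cOf k r L (vI ξ) n

/-- the set of points of dimension `d` in the support. -/
def topPts (d : ℕ) (F : X.Modules) : Set X :=
  {ξ | topologicalKrullDim (closure ({ξ} : Set X)) = (d : WithBot ℕ∞) ∧ ξ ∈ CohB1.support F}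

lemma mult_eq_zero_of_notMem {d : ℕ} {F : X.Modules} {ξ : X} (h : ξ ∉ topPts d F) :
    mult d F ξ = 0 := by
  unfold mult
  split_ifs with hc
  · have : ξ ∉ CohB1.support F := fun hs => h ⟨hc, hs⟩
    rw [length_stalk_eq_zero this]
    rfl
  · rfl

lemma support_mult_subset (d : ℕ) (F : X.Modules) :
    Function.support (mult d F) ⊆ topPts d F := by
  intro ξ hξ
  by_contra h
  exact hξ (mult_eq_zero_of_notMem h)

lemma mult_iso (d : ℕ) {M N : X.Modules} (e : M ≅ N) : mult d M = mult d N := by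
  funext ξ
  unfold mult
  rw [length_stalk_iso e ξ]

lemma cycFn_iso (d r : ℕ) (L : Fin r → X.Modules) {M N : X.Modules} (e : M ≅ N) :
    cycFn k d r L M = cycFn k d r L N := by
  unfold cycFn
  rw [mult_iso d e]

lemma topPts_iso (d : ℕ) {M N : X.Modules} (e : M ≅ N) : topPts d M = topPts d N := by
  unfold topPts
  rw [support_eq_of_iso e]

/-- the good property used in the dévissage. -/
def Good (d r : ℕ) (L : Fin r → X.Modules) (F : X.Modules) : Prop :=
  (topPts d F).Finite ∧
    (∀ ξ : X, topologicalKrullDim (closure ({ξ} : Set X)) = (d : WithBot ℕ∞) →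
      Module.length (X.presheaf.stalk ξ) (F.presheaf.stalk ξ) ≠ ⊤) ∧
    (chiFn k X r L F - cycFn k d r L F) ∈ PolLT r d

lemma good_iso (d r : ℕ) (L : Fin r → X.Modules) {M N : X.Modules} (e : M ≅ N)
    (h : Good k d r L M) : Good k d r L N := by
  obtain ⟨h1, h2, h3⟩ := h
  refine ⟨?_, ?_, ?_⟩
  · rw [← topPts_iso d e]; exact h1
  · intro ξ hξ
    rw [← length_stalk_iso e ξ]
    exact h2 ξ hξ
  · rw [← chiFn_iso k r L e, ← cycFn_iso k d r L e]
    exact h3

variable [IsProper (X ↘ Spec (CommRingCat.of k))]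

lemma good_ext (d r : ℕ) (L : Fin r → X.Modules) (hL : ∀ i, PicF.IsInvertible (L i))
    (S : ShortComplex X.Modules) (hS : S.ShortExact) (h₁ : Coh.IsCoh S.X₁)
    (h₂ : Coh.IsCoh S.X₂) (h₃ : Coh.IsCoh S.X₃) (p1 : Good k d r L S.X₁)
    (p3 : Good k d r L S.X₃) : Good k d r L S.X₂ := by
  obtain ⟨a1, b1, c1⟩ := p1
  obtain ⟨a3, b3, c3⟩ := p3
  have hsupp := support_of_shortExact hS
  have hlen := fun ξ => Groth.Agent.H1.CohLen.length_stalk_add S hS ξ
  have hmult : ∀ ξ, mult d S.X₂ ξ = mult d S.X₁ ξ + mult d S.X₃ ξ := by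
    intro ξ
    unfold mult
    split_ifs with hc
    · rw [hlen ξ, ENat.toNat_add (b1 ξ hc) (b3 ξ hc)]
    · rfl
  refine ⟨?_, ?_, ?_⟩
  · apply (a1.union a3).subset
    rintro ξ ⟨hc, hs⟩
    rw [hsupp] at hs
    rcases hs with hs | hs
    · exact Or.inl ⟨hc, hs⟩
    · exact Or.inr ⟨hc, hs⟩
  · intro ξ hc
    rw [hlen ξ]
    exact WithTop.add_ne_top.mpr ⟨b1 ξ hc, b3 ξ hc⟩
  · have hcyc : cycFn k d r L S.X₂ = cycFn k d r L S.X₁ + cycFn k d r L S.X₃ := by
      funext n
      unfold cycFn
      rw [Pi.add_apply, ← finsum_add_distrib]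
      · apply finsum_congr
        intro ξ
        rw [hmult ξ]
        push_cast
        ring
      · apply (a1.subset (support_mult_subset d S.X₁)).subset
        intro ξ hξ hz
        apply hξ
        simp [hz]
      · apply (a3.subset (support_mult_subset d S.X₃)).subset
        intro ξ hξ hz
        apply hξ
        simp [hz]
    rw [chiFn_add k r L hL S hS h₁ h₂ h₃, hcyc]
    have : chiFn k X r L S.X₁ + chiFn k X r L S.X₃ -
        (cycFn k d r L S.X₁ + cycFn k d r L S.X₃) =
        (chiFn k X r L S.X₁ - cycFn k d r L S.X₁) +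
          (chiFn k X r L S.X₃ - cycFn k d r L S.X₃) := by ring
    rw [this]
    exact Submodule.add_mem _ c1 c3

end Groth.Agent.H5.Snap
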