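import Mathlib
import Groth.Agent.Lib.Helper5.Snap.Cycle

/-!
# The leading term of `χ(F ⊗ L^n)`: dévissage.
-/

set_option autoImplicit false
universe u
open CategoryTheory CategoryTheory.Limits AlgebraicGeometry TopologicalSpace Opposite

namespace Groth.Agent.H5.Snap

open Groth.Agent.LD Groth.Agent.LD.QC Groth.Agent.H5.Curve4 Groth.Agent.H5.DegC

variable (k : Type u) [Field k] {X : Scheme.{u}} [X.Over (Spec (CommRingCat.of k))]
  [IsProper (X ↘ Spec (CommRingCat.of k))]

/-- the cokernel of a nonzero ideal of an integral scheme is torsion. -/
theorem isTors_cokernel_of_not_isTors {C : Scheme.{u}} [IsIntegral C] [IsNoetherian C]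
    (I : C.Modules) (ι : I ⟶ unitMod C) [Mono ι] (hIc : Coh.IsCoh I) (ht : ¬ IsTors I) :
    IsTors (cokernel ι) := by
  have hQc : Coh.IsCoh (cokernel ι) := isCoh_cokernel ι hIc (Groth.Agent.LD.PF.isCoh_unitMod C)
  let S : ShortComplex C.Modules := ShortComplex.mk ι (cokernel.π ι) (cokernel.condition ι)
  have hS : S.ShortExact :=
    { exact := ShortComplex.exact_cokernel ι
      mono_f := inferInstanceAs (Mono ι)
      epi_g := inferInstanceAs (Epi (cokernel.π ι)) }
  have g := gdim_add S hS hIc hQc
  change gdim (unitMod C) = gdim I + gdim (cokernel ι) at g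
  rw [gdim_unit] at g
  letI : Field (C.presheaf.stalk (genericPoint C)) := inferInstanceAs (Field C.functionField)
  haveI := hQc.1
  haveI := hIc.1
  haveI : Module.Finite (C.presheaf.stalk (genericPoint C))
      ((cokernel ι).presheaf.stalk (genericPoint C)) :=
    Groth.Agent.H1.CohLen.finite_stalk _ hQc.2 _
  haveI : Module.Finite (C.presheaf.stalk (genericPoint C)) (I.presheaf.stalk (genericPoint C)) :=
    Groth.Agent.H1.CohLen.finite_stalk _ hIc.2 _
  have hpos : 0 < gdim I := by
    unfold gdim
    rw [Module.finrank_pos_iff]
    exact not_subsingleton_iff_nontrivial.mp ht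
  have h0 : gdim (cokernel ι) = 0 := by omega
  unfold IsTors
  unfold gdim at h0
  exact Module.finrank_zero_iff.mp h0

theorem good_push_ideal (d r : ℕ) (L : Fin r → X.Modules) (hL : ∀ i, PicF.IsInvertible (L i))
    (C : X.IdealSheafData) [IsIntegral C.subscheme] (I : C.subscheme.Modules)
    (ι : I ⟶ unitMod C.subscheme) [Mono ι] (hI : I.IsQuasicoherent)
    (hs : topologicalKrullDim (CohB1.support ((Scheme.Modules.pushforward C.subschemeι).obj I)) ≤
      (d : WithBot ℕ∞)) :
    Good k d r L ((Scheme.Modules.pushforward C.subschemeι).obj I) := by
  haveI : IsNoetherian X := Curve2.isNoetherian_of_proper k X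
  letI : C.subscheme.Over (Spec (CommRingCat.of k)) := overOf k C.subschemeι
  haveI : IsProper (C.subscheme ↘ Spec (CommRingCat.of k)) :=
    inferInstanceAs (IsProper (C.subschemeι ≫ (X ↘ Spec (CommRingCat.of k))))
  haveI : IsNoetherian C.subscheme := Curve2.isNoetherian_of_proper k C.subscheme
  have hIc : Coh.IsCoh I := isCoh_of_mono ι hI (Groth.Agent.LD.PF.isCoh_unitMod C.subscheme)
  have hMc : Coh.IsCoh ((Scheme.Modules.pushforward C.subschemeι).obj I) :=
    ⟨QC.qc_pushforward C.subschemeι I, QC.isFiniteType_pushforward_of_isFinite C.subschemeι I hIc.2⟩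
  have hL' : ∀ j, PicF.IsInvertible ((Scheme.Modules.pullback C.subschemeι).obj (L j)) :=
    fun j => isInvertible_pullback C.subschemeι (hL j)
  by_cases ht : IsTors I
  · have hz : IsZero I := isZero_of_mono_unit_of_isTors I ι ht
    have hzM : IsZero ((Scheme.Modules.pushforward C.subschemeι).obj I) :=
      (Scheme.Modules.pushforward C.subschemeι).map_isZero hz
    have hsuppM := support_eq_empty_of_isZero hzM
    have htop : topPts d ((Scheme.Modules.pushforward C.subschemeι).obj I) = ∅ := by
      ext ξ
      simp only [topPts, Set.mem_ofPred_eq, Set.mem_empty_iff_false, iff_false, not_and]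
      intro _ h
      rw [hsuppM] at h
      exact h
    refine ⟨?_, ?_, ?_⟩
    · rw [htop]; exact Set.finite_empty
    · intro ξ _
      rw [length_stalk_eq_zero (by rw [hsuppM]; exact Set.notMem_empty ξ)]
      exact ENat.zero_ne_top
    · have h1 : cycFn k d r L ((Scheme.Modules.pushforward C.subschemeι).obj I) = 0 := by
        funext n
        unfold cycFn
        rw [Pi.zero_apply, ← finsum_zero (M := ℚ) (α := X)]
        apply finsum_congr
        intro ξ
        rw [mult_eq_zero_of_notMem (by rw [htop]; exact Set.notMem_empty ξ)]
        simp
      rw [chiFn_isZero k r L hzM, h1, sub_zero]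
      exact Submodule.zero_mem _
  · set η := C.subschemeι (genericPoint C.subscheme) with hη
    have hcl : IsClosed (CohB1.support I) := QC.isClosed_support_of_isFiniteType I hIc.2
    have huniv : CohB1.support I = Set.univ := by
      have hη' : genericPoint C.subscheme ∈ CohB1.support I := ht
      have h1 : closure {genericPoint C.subscheme} ⊆ CohB1.support I :=
        hcl.closure_subset_iff.mpr (Set.singleton_subset_iff.mpr hη')
      rw [(genericPoint_spec C.subscheme).def] at h1
      exact Set.univ_subset_iff.mp h1
    have hsuppM : CohB1.support ((Scheme.Modules.pushforward C.subschemeι).obj I) =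
        closure ({η} : Set X) := by
      rw [← support_eq_closure_of_isIntegral C, ← C.range_subschemeι]
      apply Set.Subset.antisymm
      · exact Groth.Agent.LD.PS.support_pushforward_subset C.subschemeι I
      · rintro _ ⟨z, rfl⟩
        exact mem_support_pushforward C.subschemeι I z (by rw [huniv]; trivial)
    have hdimη : topologicalKrullDim (closure ({η} : Set X)) ≤ (d : WithBot ℕ∞) := by
      rw [← hsuppM]; exact hs
    have hkey : ∀ ξ : X, topologicalKrullDim (closure ({ξ} : Set X)) = (d : WithBot ℕ∞) →
        ξ ∈ CohB1.support ((Scheme.Modules.pushforward C.subschemeι).obj I) → ξ = η := by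
      intro ξ hξ hmem
      rw [hsuppM] at hmem
      exact eq_of_dim_closure_eq ξ η hmem d hdimη hξ
    have hlen1 : Module.length (X.presheaf.stalk η)
        (((Scheme.Modules.pushforward C.subschemeι).obj I).presheaf.stalk η) = 1 :=
      Module.length_eq_one_iff.mpr (isSimpleModule_stalk_push C.subschemeι I ι ht)
    refine ⟨?_, ?_, ?_⟩
    · apply (Set.finite_singleton η).subset
      rintro ξ ⟨h1, h2⟩
      exact hkey ξ h1 h2
    · intro ξ hξ
      by_cases hmem : ξ ∈ CohB1.support ((Scheme.Modules.pushforward C.subschemeι).obj I)
      · rw [hkey ξ hξ hmem, hlen1]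
        exact ENat.one_ne_top
      · rw [length_stalk_eq_zero hmem]
        exact ENat.zero_ne_top
    · by_cases hdη : topologicalKrullDim (closure ({η} : Set X)) = (d : WithBot ℕ∞)
      · have hcyc : cycFn k d r L ((Scheme.Modules.pushforward C.subschemeι).obj I) =
            cOf k r L C := by
          funext n
          unfold cycFn
          rw [finsum_eq_single _ η]
          · have hm : mult d ((Scheme.Modules.pushforward C.subschemeι).obj I) η = 1 := by
              unfold mult
              rw [if_pos hdη, hlen1]
              rfl
            have hv : vI (C.subschemeι (genericPoint C.subscheme)) = C :=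
              eq_vanishingIdeal_of_isIntegral C
            rw [hm, hη, hv]
            simp
          · intro ξ hne
            rw [mult_eq_zero_of_notMem (fun h => hne (hkey ξ h.1 h.2))]
            simp
        have hQc : Coh.IsCoh (cokernel ι) :=
          isCoh_cokernel ι hIc (Groth.Agent.LD.PF.isCoh_unitMod C.subscheme)
        let S : ShortComplex C.subscheme.Modules :=
          ShortComplex.mk ι (cokernel.π ι) (cokernel.condition ι)
        have hS : S.ShortExact :=
          { exact := ShortComplex.exact_cokernel ι
            mono_f := inferInstanceAs (Mono ι)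
            epi_g := inferInstanceAs (Epi (cokernel.π ι)) }
        have hadd := chiFn_add k r _ hL' S hS hIc (Groth.Agent.LD.PF.isCoh_unitMod C.subscheme) hQc
        change cOf k r L C = chiFn k C.subscheme r _ I + chiFn k C.subscheme r _ (cokernel ι) at hadd
        rw [hcyc, chiFn_push k C.subschemeι r L hL I, hadd]
        have hdimC : topologicalKrullDim C.subscheme ≤ (d : WithBot ℕ∞) := by
          rw [dim_subscheme_eq, support_eq_closure_of_isIntegral C]
          exact hdimη
        have htQ := isTors_cokernel_of_not_isTors I ι hIc ht
        have hlt : topologicalKrullDim (CohB1.support (cokernel ι)) < (d : WithBot ℕ∞) := by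
          apply dim_lt_of_isClosed_ne_univ _ (QC.isClosed_support_of_isFiniteType _ hQc.2) ?_ d hdimC
          intro (hu : CohB1.support (cokernel ι) = Set.univ)
          have : genericPoint C.subscheme ∈ CohB1.support (cokernel ι) := by rw [hu]; trivial
          exact this htQ
        have hmem := snapper_aux k d C.subscheme (cokernel ι) hQc hlt r _ hL'
        have : chiFn k C.subscheme r (fun j => (Scheme.Modules.pullback C.subschemeι).obj (L j)) I -
            (chiFn k C.subscheme r (fun j => (Scheme.Modules.pullback C.subschemeι).obj (L j)) I +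
              chiFn k C.subscheme r (fun j => (Scheme.Modules.pullback C.subschemeι).obj (L j))
                (cokernel ι)) =
            - chiFn k C.subscheme r (fun j => (Scheme.Modules.pullback C.subschemeι).obj (L j))
              (cokernel ι) := by ring
        rw [this]
        exact Submodule.neg_mem _ hmem
      · have hcyc : cycFn k d r L ((Scheme.Modules.pushforward C.subschemeι).obj I) = 0 := by
          funext n
          unfold cycFn
          rw [Pi.zero_apply, ← finsum_zero (M := ℚ) (α := X)]
          apply finsum_congr
          intro ξ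
          rw [mult_eq_zero_of_notMem (fun h => hdη (by rw [← hkey ξ h.1 h.2]; exact h.1))]
          simp
        rw [hcyc, sub_zero]
        apply snapper_aux k d X _ hMc ?_ r L hL
        rw [hsuppM]
        exact lt_of_le_of_ne hdimη hdη

end Groth.Agent.H5.Snap
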