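import Mathlib
import Groth.Agent.Lib.Helper5.Snap.Main
import Groth.Agent.Lib.Helper5.Snap.TopCoeff
import Groth.Agent.Lib.Lead.QC.QuotSupp

/-!
# Intersection numbers are integers.
-/

set_option autoImplicit false
universe u
open CategoryTheory CategoryTheory.Limits AlgebraicGeometry TopologicalSpace Opposite

namespace Groth.Agent.H5.Snap

open Groth.Agent.LD Groth.Agent.LD.QC Groth.Agent.H5.Curve4 Groth.Agent.H5.DegC

variable (k : Type u) [Field k] {X : Scheme.{u}} [X.Over (Spec (CommRingCat.of k))]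
  [IsProper (X ↘ Spec (CommRingCat.of k))]

/-- any polynomial computing `χ(F ⊗ L^n)` has its monomials of degree `≤ dim Supp F`. -/
theorem support_deg_le (F : X.Modules) (hF : Coh.IsCoh F) (d : ℕ)
    (hsupp : topologicalKrullDim (CohB1.support F) ≤ d) (r : ℕ) (L : Fin r → X.Modules)
    (hL : ∀ i, PicF.IsInvertible (L i)) (P : MvPolynomial (Fin r) ℚ)
    (hP : ∀ n : Fin r → ℕ, (Curv2.euler k X (Curv2.tensorPows F r L n) : ℚ) =
      MvPolynomial.eval (fun i => (n i : ℚ)) P) :
    ∀ m ∈ P.support, (m.sum fun _ e => e) ≤ d := by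
  have h := snapper_aux k (d + 1) X F hF (lt_succ_coe_of_le hsupp) r L hL
  obtain ⟨P₀, hP1, hP2⟩ := exists_poly_of_mem _ h
  have hPP : P = P₀ := by
    apply eq_of_eval_nat
    intro n
    rw [← hP n, ← hP2 n, ← tpFun_obj]
    rfl
  rw [hPP]
  intro m hm
  exact Nat.lt_succ_iff.mp (hP1 m hm)

/-- **the intersection number as a mixed difference of Euler characteristics.** -/
theorem coeff_one_eq_sum_euler (F : X.Modules) (hF : Coh.IsCoh F) (d : ℕ)
    (hsupp : topologicalKrullDim (CohB1.support F) ≤ d) (L : Fin d → X.Modules)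
    (hL : ∀ i, PicF.IsInvertible (L i)) (P : MvPolynomial (Fin d) ℚ)
    (hP : ∀ n : Fin d → ℕ, (Curv2.euler k X (Curv2.tensorPows F d L n) : ℚ) =
      MvPolynomial.eval (fun i => (n i : ℚ)) P) :
    MvPolynomial.coeff (Finsupp.equivFunOnFinite.symm fun _ : Fin d => 1) P =
      ((∑ S ∈ (Finset.univ : Finset (Fin d)).powerset, (-1 : ℤ) ^ (d - S.card) *
        Curv2.euler k X (Curv2.tensorPows F d L (fun i => if i ∈ S then 1 else 0)) : ℤ) : ℚ) := by
  rw [coeff_one_eq_sum d P (support_deg_le k F hF d hsupp d L hL P hP)]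
  push_cast
  apply Finset.sum_congr rfl
  intro S _
  rw [hP]
  congr 3
  funext i
  split_ifs <;> simp

end Groth.Agent.H5.Snap
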