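import Mathlib
import Groth.Agent.Lib.Helper5.Snap.Cycle2
import Groth.Agent.Lib.Helper5.Snap.IntNumZ
import Groth.Agent.Lib.Helper5.Snap.Arith2

/-!
# The leading term of `χ(F ⊗ L^n)`: main statements (S7650, S7686).
-/

set_option autoImplicit false
universe u
open CategoryTheory CategoryTheory.Limits AlgebraicGeometry TopologicalSpace Opposite

namespace Groth.Agent.H5.Snap

open Groth.Agent.LD Groth.Agent.LD.QC Groth.Agent.H5.Curve4 Groth.Agent.H5.DegC

variable (k : Type u) [Field k] {X : Scheme.{u}} [X.Over (Spec (CommRingCat.of k))]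
  [IsProper (X ↘ Spec (CommRingCat.of k))]

theorem good_of_isCoh (d r : ℕ) (L : Fin r → X.Modules) (hL : ∀ i, PicF.IsInvertible (L i))
    (F : X.Modules) (hF : Coh.IsCoh F)
    (hs : topologicalKrullDim (CohB1.support F) ≤ (d : WithBot ℕ∞)) : Good k d r L F := by
  rcases isEmpty_or_nonempty X with he | hne
  · refine ⟨Set.toFinite _, fun ξ => (IsEmpty.false ξ).elim, ?_⟩
    have h1 : chiFn k X r L F = 0 := by
      funext n
      unfold chiFn
      rw [euler_eq_zero_of_isEmpty k]
      simp
    have h2 : cycFn k d r L F = 0 := by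
      funext n
      unfold cycFn
      rw [finsum_of_isEmpty]
      rfl
    rw [h1, h2, sub_zero]
    exact Submodule.zero_mem _
  haveI : IsNoetherian X := Curve2.isNoetherian_of_proper k X
  refine devissage_ideal X (fun F => topologicalKrullDim (CohB1.support F) ≤ (d : WithBot ℕ∞) →
    Good k d r L F) ?_ ?_ ?_ F hF hs
  · rintro M N ⟨e⟩ h hsN
    apply good_iso k d r L e
    apply h
    rw [support_eq_of_iso e]
    exact hsN
  · intro S hS h1 h2 h3 p1 p3 hs2
    have hsupp2 := support_of_shortExact hS
    apply good_ext k d r L hL S hS h1 h2 h3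
    · apply p1
      refine (dim_mono ?_).trans hs2
      rw [hsupp2]
      exact Set.subset_union_left
    · apply p3
      refine (dim_mono ?_).trans hs2
      rw [hsupp2]
      exact Set.subset_union_right
  · intro C hC I ι hι hI hsI
    haveI := hC
    haveI := hι
    exact good_push_ideal k d r L hL C I ι hI hsI

/-- **S7650**: the Euler characteristic of the twists minus the contribution of the top
dimensional components is a polynomial of lower degree. -/
theorem euler_sub_cycle (F : X.Modules) (hF : Coh.IsCoh F) (d : ℕ)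
    (hd : topologicalKrullDim (CohB1.support F) ≤ (d : WithBot ℕ∞))
    (r : ℕ) (L : Fin r → X.Modules) (hL : ∀ i, PicF.IsInvertible (L i)) :
    ∃ P : MvPolynomial (Fin r) ℚ, (∀ m ∈ P.support, (m.sum fun _ e => e) < d) ∧
      ∀ n : Fin r → ℕ,
        (Curv2.euler k X (Curv2.tensorPows F r L n) : ℚ) -
          ∑ᶠ ξ : X, (if topologicalKrullDim (closure ({ξ} : Set X)) = (d : WithBot ℕ∞) then
            ((Module.length (X.presheaf.stalk ξ) (F.presheaf.stalk ξ)).toNat : ℚ) *
              (@Curv2.euler k _
                (Scheme.IdealSheafData.vanishingIdeal (⟨closure ({ξ} : Set X), isClosed_closure⟩ : TopologicalSpace.Closeds X)).subscheme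
                ⟨(Scheme.IdealSheafData.vanishingIdeal (⟨closure ({ξ} : Set X), isClosed_closure⟩ : TopologicalSpace.Closeds X)).subschemeι ≫ (X ↘ (Spec (CommRingCat.of k)))⟩
                (Curv2.tensorPows
                  (Coh.structureModule (Scheme.IdealSheafData.vanishingIdeal (⟨closure ({ξ} : Set X), isClosed_closure⟩ : TopologicalSpace.Closeds X)).subscheme)
                  r (fun i => (Scheme.Modules.pullback
                    (Scheme.IdealSheafData.vanishingIdeal (⟨closure ({ξ} : Set X), isClosed_closure⟩ : TopologicalSpace.Closeds X)).subschemeι).obj (L i)) n) : ℚ)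
            else 0)
          = MvPolynomial.eval (fun i => (n i : ℚ)) P := by
  obtain ⟨-, -, h3⟩ := good_of_isCoh k d r L hL F hF hd
  obtain ⟨P, hP1, hP2⟩ := exists_poly_of_mem _ h3
  refine ⟨P, hP1, ?_⟩
  intro n
  rw [← hP2 n, Pi.sub_apply]
  congr 1
  · rw [← tpFun_obj]
    rfl
  · unfold cycFn
    apply finsum_congr
    intro ξ
    unfold mult
    split_ifs with hc
    · congr 1
      unfold cOf chiFn
      rw [← tpFun_obj]
    · simp

end Groth.Agent.H5.Snap
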