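import Mathlib
import Groth.Agent.Lib.Helper5.Snap.Cycle3

/-!
# Intersection numbers and multiplicities of components (S7686).
-/

set_option autoImplicit false
universe u
open CategoryTheory CategoryTheory.Limits AlgebraicGeometry TopologicalSpace Opposite

namespace Groth.Agent.H5.Snap

open Groth.Agent.LD Groth.Agent.LD.QC Groth.Agent.H5.Curve4 Groth.Agent.H5.DegC

variable (k : Type u) [Field k] {X : Scheme.{u}} [X.Over (Spec (CommRingCat.of k))]
  [IsProper (X ↘ Spec (CommRingCat.of k))]

lemma cOf_eq_chiFn_quotMod (r : ℕ) (L : Fin r → X.Modules) (hL : ∀ i, PicF.IsInvertible (L i))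
    (V : X.IdealSheafData) : cOf k r L V = chiFn k X r L (ClSub.quotMod V) := by
  unfold cOf
  rw [chiFn_push k V.subschemeι r L hL]

theorem intersection_eq_sum_mult (D : X.IdealSheafData) (d : ℕ)
    (hD : topologicalKrullDim (D.support : Set X) = d)
    (L : Fin d → X.Modules) (hL : ∀ i, PicF.IsInvertible (L i)) (P : MvPolynomial (Fin d) ℚ)
    (hP : ∀ n : Fin d → ℕ, (Curv2.euler k X (Curv2.tensorPows (ClSub.quotMod D) d L n) : ℚ) =
      MvPolynomial.eval (fun i => (n i : ℚ)) P)
    (Q : X → MvPolynomial (Fin d) ℚ)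
    (hQ : ∀ ξ : X, topologicalKrullDim (closure ({ξ} : Set X)) = (d : WithBot ℕ∞) →
      ∀ n : Fin d → ℕ, (Curv2.euler k X (Curv2.tensorPows (ClSub.quotMod
        (Scheme.IdealSheafData.vanishingIdeal
          (⟨closure ({ξ} : Set X), isClosed_closure⟩ : TopologicalSpace.Closeds X))) d L n) : ℚ) =
        MvPolynomial.eval (fun i => (n i : ℚ)) (Q ξ)) :
    MvPolynomial.coeff (Finsupp.equivFunOnFinite.symm fun _ : Fin d => 1) P =
      ∑ᶠ ξ : X, (if topologicalKrullDim (closure ({ξ} : Set X)) = (d : WithBot ℕ∞) then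
        ((Module.length (X.presheaf.stalk ξ) ((ClSub.quotMod D).presheaf.stalk ξ)).toNat : ℚ) *
          MvPolynomial.coeff (Finsupp.equivFunOnFinite.symm fun _ : Fin d => 1) (Q ξ) else 0) := by
  classical
  have hFc : Coh.IsCoh (ClSub.quotMod D) := isCoh_quotMod D
  have hs : topologicalKrullDim (CohB1.support (ClSub.quotMod D)) ≤ (d : WithBot ℕ∞) := by
    rw [support_quotMod, hD]
  obtain ⟨hfin, -, hmem⟩ := good_of_isCoh k d d L hL (ClSub.quotMod D) hFc hs
  have h0 := mixDiffL_eq_zero _ hmem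
  rw [map_sub, sub_eq_zero] at h0
  have hdegP := support_deg_le k (ClSub.quotMod D) hFc d hs d L hL P hP
  have hchi : chiFn k X d L (ClSub.quotMod D) =
      fun n => MvPolynomial.eval (fun i => (n i : ℚ)) P := by
    funext n
    rw [← hP n, ← tpFun_obj]
    rfl
  rw [hchi, mixDiffL_eval d P hdegP] at h0
  rw [h0]
  -- the cycle function as a finite sum
  have hcyc : cycFn k d d L (ClSub.quotMod D) =
      ∑ ξ ∈ hfin.toFinset, (mult d (ClSub.quotMod D) ξ : ℚ) • cOf k d L (vI ξ) := by
    funext n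
    unfold cycFn
    rw [finsum_eq_sum_of_support_subset (s := hfin.toFinset), Finset.sum_apply]
    · rfl
    · intro ξ hξ
      rw [Set.Finite.coe_toFinset]
      by_contra hn
      apply hξ
      simp [mult_eq_zero_of_notMem hn]
  rw [hcyc, map_sum]
  have hterm : ∀ ξ ∈ hfin.toFinset,
      mixDiffL d ((mult d (ClSub.quotMod D) ξ : ℚ) • cOf k d L (vI ξ)) =
      (mult d (ClSub.quotMod D) ξ : ℚ) *
        MvPolynomial.coeff (Finsupp.equivFunOnFinite.symm fun _ : Fin d => 1) (Q ξ) := by
    intro ξ hξ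
    have hc : topologicalKrullDim (closure ({ξ} : Set X)) = (d : WithBot ℕ∞) :=
      ((Set.Finite.mem_toFinset hfin).mp hξ).1
    have hsξ : topologicalKrullDim (CohB1.support (ClSub.quotMod (vI ξ))) ≤ (d : WithBot ℕ∞) := by
      rw [support_quotMod]
      have : ((vI ξ).support : Set X) = closure ({ξ} : Set X) := by simp [vI]
      rw [this, hc]
    have hdegQ := support_deg_le k (ClSub.quotMod (vI ξ)) (isCoh_quotMod _) d hsξ d L hL (Q ξ)
      (hQ ξ hc)
    have hq : cOf k d L (vI ξ) = fun n => MvPolynomial.eval (fun i => (n i : ℚ)) (Q ξ) := by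
      rw [cOf_eq_chiFn_quotMod k d L hL]
      funext n
      rw [← hQ ξ hc n, ← tpFun_obj]
      rfl
    rw [map_smul, hq, mixDiffL_eval d (Q ξ) hdegQ, smul_eq_mul]
  rw [Finset.sum_congr rfl hterm]
  rw [finsum_eq_sum_of_support_subset (s := hfin.toFinset)]
  · apply Finset.sum_congr rfl
    intro ξ _
    unfold mult
    split_ifs with hc
    · rfl
    · simp
  · intro ξ hξ
    rw [Set.Finite.coe_toFinset]
    by_contra hn
    apply hξ
    have hm := mult_eq_zero_of_notMem hn
    unfold mult at hm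
    beta_reduce
    by_cases hc : topologicalKrullDim (closure ({ξ} : Set X)) = (d : WithBot ℕ∞)
    · rw [if_pos hc] at hm ⊢
      rw [hm]
      simp
    · rw [if_neg hc]

end Groth.Agent.H5.Snap
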