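import Mathlib
import Groth.Agent.Lib.Helper5.DegC.Cartier

/-!
# The dimension of an effective Cartier divisor.
-/

set_option autoImplicit false
universe u
open CategoryTheory CategoryTheory.Limits AlgebraicGeometry TopologicalSpace Opposite Order

namespace Groth.Agent.H5.Snap

open Groth.Agent.H5.DegC

/-- a closed subset all of whose points have proper generalizations has smaller dimension. -/
theorem dim_lt_of_forall_exists_generalization {T : Type*} [TopologicalSpace T] [QuasiSober T]
    [T0Space T] (Z : Set T) (hZ : IsClosed Z)
    (hgen : ∀ z ∈ Z, ∃ y : T, y ⤳ z ∧ y ≠ z) (d : ℕ)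
    (hd : topologicalKrullDim T ≤ d) : topologicalKrullDim Z < d := by
  unfold topologicalKrullDim
  rw [krullDim_lt_coe_iff]
  intro l
  let l' : LTSeries (IrreducibleCloseds T) :=
    l.map (IrreducibleCloseds.map (Subtype.val : Z → T) continuous_subtype_val)
      (IrreducibleCloseds.map_strictMono_of_isInducing Topology.IsInducing.subtypeVal)
  have h2 : (l'.last : Set T) ⊆ Z := by
    change closure (Subtype.val '' _) ⊆ Z
    rw [hZ.closure_subset_iff]
    rintro _ ⟨y, _, rfl⟩
    exact y.2
  obtain ⟨z, hz⟩ := QuasiSober.sober l'.last.isIrreducible l'.last.isClosed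
  have hzZ : z ∈ Z := h2 hz.mem
  obtain ⟨y, hy, hne⟩ := hgen z hzZ
  let Y : IrreducibleCloseds T :=
    ⟨closure {y}, isIrreducible_singleton.closure, isClosed_closure⟩
  have hlast : l'.last < Y := by
    rw [lt_iff_le_and_ne]
    constructor
    · change (l'.last : Set T) ⊆ closure {y}
      rw [← hz.def]
      exact closure_minimal (Set.singleton_subset_iff.mpr (specializes_iff_mem_closure.mp hy))
        isClosed_closure
    · intro h
      apply hne
      have h1 : closure ({z} : Set T) = closure {y} := by
        rw [hz.def]
        exact congrArg (fun W : IrreducibleCloseds T => (W : Set T)) h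
      have hzy : z ⤳ y := by
        rw [specializes_iff_mem_closure, h1]
        exact subset_closure rfl
      exact (hy.antisymm hzy).eq
  let l'' : LTSeries (IrreducibleCloseds T) := l'.snoc Y hlast
  have h3 : (l''.length : WithBot ℕ∞) ≤ d := (LTSeries.length_le_krullDim l'').trans hd
  have h4 : l''.length = l.length + 1 := by simp [l'', l']
  rw [h4] at h3
  have : l.length + 1 ≤ d := by exact_mod_cast h3
  omega

/-- **an effective Cartier divisor on a scheme of dimension `≤ d` has dimension `< d`.** -/
theorem dim_support_lt_of_isEffCartier {X : Scheme.{u}} (D : X.IdealSheafData)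
    (hD : BlowUp.IsEffCartierIdeal D) (d : ℕ) (hd : topologicalKrullDim X ≤ d) :
    topologicalKrullDim (D.support : Set X) < d :=
  dim_lt_of_forall_exists_generalization _ D.support.isClosed
    (fun z hz => exists_generalization_of_mem_support D hD z hz) d hd

end Groth.Agent.H5.Snap
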