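import Mathlib
import Groth.Agent.Lib.Helper5.Snap.SnapAux

/-!
# Peeling off the first factor of `tpFun`.
-/

set_option autoImplicit false
universe u
open CategoryTheory CategoryTheory.Limits AlgebraicGeometry TopologicalSpace Opposite

namespace Groth.Agent.H5.Snap

open Groth.Agent.LD Groth.Agent.LD.QC Groth.Agent.H5.Curve4 Groth.Agent.H5.DegC

variable {X : Scheme.{u}}

/-- `F ⊗ L_0^{n_0} ⊗ ⋯ ⊗ L_r^{n_r} ≅ (F ⊗ L_0^{n_0}) ⊗ L_1^{n_1} ⊗ ⋯`. -/
theorem nonempty_tp_first_iso : ∀ (r : ℕ) (L : Fin (r + 1) → X.Modules) (n : Fin (r + 1) → ℕ)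
    (L' : Fin r → X.Modules) (n' : Fin r → ℕ) (_ : ∀ i, L' i = L i.succ)
    (_ : ∀ i, n' i = n i.succ) (F : X.Modules),
    Nonempty ((tpFun (r + 1) L n).obj F ≅
      (tpFun r L' n').obj (CohB1.tensorMod F (CohB1.tensorPow (L 0) (n 0))))
  | 0, L, n, L', n', _, _, F => ⟨Iso.refl _⟩
  | r + 1, L, n, L', n', hL', hn', F => by
    obtain ⟨e⟩ := nonempty_tp_first_iso r (fun i => L i.castSucc) (fun i => n i.castSucc)
      (fun i => L' i.castSucc) (fun i => n' i.castSucc)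
      (fun i => by rw [hL', Fin.succ_castSucc]) (fun i => by rw [hn', Fin.succ_castSucc]) F
    rw [tpFun_succ_obj F (r + 1) L n, tpFun_succ_obj _ r L' n', hL' (Fin.last r),
      hn' (Fin.last r), Fin.succ_last]
    exact ⟨tensorIso' e (Iso.refl _)⟩

variable (k : Type u) [Field k] [X.Over (Spec (CommRingCat.of k))]

lemma chiFn_cons (r : ℕ) (L : Fin (r + 1) → X.Modules) (F : X.Modules) (m : ℕ)
    (n' : Fin r → ℕ) :
    chiFn k X (r + 1) L F (Fin.cons m n') =
      chiFn k X r (fun i => L i.succ) (CohB1.tensorMod F (CohB1.tensorPow (L 0) m)) n' := by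
  obtain ⟨e⟩ := nonempty_tp_first_iso r L (Fin.cons m n') (fun i => L i.succ) n'
    (fun _ => rfl) (fun i => by simp) F
  unfold chiFn
  rw [Curve.euler_iso k X e]
  simp

end Groth.Agent.H5.Snap
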