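import Mathlib
import Groth.Agent.Lib.Helper5.Snap.IntNumZ
import Groth.Agent.Lib.Helper5.Snap.Arith2
import Groth.Agent.Lib.Helper5.Snap.CartierDim
import Groth.Agent.Lib.Helper5.Snap.TP2

/-!
# `(L_0 ⋯ L_e · X) = (L_1 ⋯ L_e · D)` for `L_0 = O_X(D)`.
-/

set_option autoImplicit false
universe u
open CategoryTheory CategoryTheory.Limits AlgebraicGeometry TopologicalSpace Opposite

namespace Groth.Agent.H5.Snap

open Groth.Agent.LD Groth.Agent.LD.QC Groth.Agent.H5.Curve4 Groth.Agent.H5.DegC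

variable (k : Type u) [Field k] {X : Scheme.{u}} [X.Over (Spec (CommRingCat.of k))]
  [IsProper (X ↘ Spec (CommRingCat.of k))]

lemma cons_add_single {r : ℕ} (m : ℕ) (n' : Fin r → ℕ) :
    (Fin.cons m n' + Pi.single 0 1 : Fin (r + 1) → ℕ) = Fin.cons (m + 1) n' := by
  funext i
  refine Fin.cases ?_ (fun i' => ?_) i
  · simp
  · simp [Pi.single_apply]

theorem intersection_effCartier (e : ℕ) (hX : topologicalKrullDim X ≤ ((e + 1 : ℕ) : WithBot ℕ∞))
    (D : X.IdealSheafData) (hD : BlowUp.IsEffCartierIdeal D)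
    (L : Fin (e + 1) → X.Modules) (hL : ∀ j, PicF.IsInvertible (L j))
    (hLD : ClSub.IsInverseOf (L 0) (ClSub.idealMod D))
    (P : MvPolynomial (Fin (e + 1)) ℚ) (Q : MvPolynomial (Fin e) ℚ)
    (hP : ∀ n : Fin (e + 1) → ℕ, (Curv2.euler k X (Curv2.tensorPows (Coh.structureModule X) (e + 1) L n) : ℚ) =
      MvPolynomial.eval (fun i => (n i : ℚ)) P)
    (hQ : ∀ n : Fin e → ℕ, (Curv2.euler k X (Curv2.tensorPows (ClSub.quotMod D) e (fun j => L j.succ) n) : ℚ) =
      MvPolynomial.eval (fun i => (n i : ℚ)) Q) :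
    MvPolynomial.coeff (Finsupp.equivFunOnFinite.symm fun _ : Fin (e + 1) => 1) P =
      MvPolynomial.coeff (Finsupp.equivFunOnFinite.symm fun _ : Fin e => 1) Q := by
  haveI : IsNoetherian X := Curve2.isNoetherian_of_proper k X
  have hOc := Groth.Agent.LD.PF.isCoh_unitMod X
  have hQc : Coh.IsCoh (ClSub.quotMod D) := isCoh_quotMod D
  have hIc : Coh.IsCoh (ClSub.idealMod D) := isCoh_of_mono (ClSub.idealModι D) inferInstance hOc
  have hdimD : topologicalKrullDim (CohB1.support (ClSub.quotMod D)) < ((e + 1 : ℕ) : WithBot ℕ∞) := by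
    rw [support_quotMod]
    exact dim_support_lt_of_isEffCartier D hD (e + 1) hX
  have hdimD' : topologicalKrullDim (CohB1.support (ClSub.quotMod D)) ≤ (e : WithBot ℕ∞) :=
    le_of_lt_succ_coe hdimD
  have hdimO : topologicalKrullDim (CohB1.support (unitMod X)) ≤ ((e + 1 : ℕ) : WithBot ℕ∞) :=
    (topologicalKrullDim_subspace_le X _).trans hX
  set p := chiFn k X (e + 1) L (unitMod X) with hp
  set R := chiFn k X (e + 1) L (ClSub.quotMod D) with hRdef
  have hpP : p = fun n => MvPolynomial.eval (fun i => (n i : ℚ)) P := by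
    funext n
    rw [← hP n, ← tpFun_obj]
    rfl
  have hR : R ∈ PolLT (e + 1) (e + 1) := snapper_aux k (e + 1) X _ hQc hdimD (e + 1) L hL
  -- the key relation
  have hrel : ∀ n, p (n + Pi.single 0 1) = p n + R (n + Pi.single 0 1) := by
    intro n
    have h1 := chiFn_add k (e + 1) L hL _ (shortExact_idealMod D) hIc hOc hQc
    change p = chiFn k X (e + 1) L (ClSub.idealMod D) + R at h1
    obtain ⟨eLD⟩ := hLD
    rw [h1, Pi.add_apply, chiFn_succ k (e + 1) L hL _ hIc 0 n, chiFn_iso k (e + 1) L eLD]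
    rw [← h1]
  have hdegP := support_deg_le k (unitMod X) hOc (e + 1) hdimO (e + 1) L hL P hP
  have hdegQ := support_deg_le k (ClSub.quotMod D) hQc e hdimD' e (fun j => L j.succ)
    (fun j => hL _) Q hQ
  rw [← mixDiffL_eval (e + 1) P hdegP, ← mixDiffL_eval e Q hdegQ, ← hpP, mixDiffL_succ]
  have hg : (fun n' : Fin e → ℕ => R (Fin.cons 0 n' + Pi.single 0 1) - R (Fin.cons 0 n')) ∈
      PolLT e e := restrict_mem _ (diff0_mem R hR)
  have hfun : (fun n' : Fin e → ℕ => p (Fin.cons 1 n') - p (Fin.cons 0 n')) =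
      (fun n' : Fin e → ℕ => MvPolynomial.eval (fun i => (n' i : ℚ)) Q) +
        (fun n' : Fin e → ℕ => R (Fin.cons 0 n' + Pi.single 0 1) - R (Fin.cons 0 n')) := by
    funext n'
    have h1 := hrel (Fin.cons 0 n')
    rw [cons_add_single] at h1
    rw [Pi.add_apply, cons_add_single]
    have h2 : R (Fin.cons 0 n') = MvPolynomial.eval (fun i => (n' i : ℚ)) Q := by
      rw [← hQ n', hRdef, chiFn_cons k e L (ClSub.quotMod D) 0 n']
      change chiFn k X e (fun i => L i.succ)
        (CohB1.tensorMod (ClSub.quotMod D) (Coh.structureModule X)) n' = _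
      rw [chiFn_iso k e _ (SecTwist.unitorR (ClSub.quotMod D)), ← tpFun_obj]
      rfl
    simp only [zero_add] at h1 ⊢
    rw [h1, h2]
    ring
  rw [hfun, map_add, mixDiffL_eq_zero _ hg, add_zero]

end Groth.Agent.H5.Snap
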