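import Mathlib
import Groth.Agent.Lib.Helper5.Snap.Cycle2

/-!
# Abstract dévissage by top dimensional cycles.
-/

set_option autoImplicit false
universe u
open CategoryTheory CategoryTheory.Limits AlgebraicGeometry TopologicalSpace Opposite

namespace Groth.Agent.H5.Snap

open Groth.Agent.LD Groth.Agent.LD.QC Groth.Agent.H5.Curve4 Groth.Agent.H5.DegC

variable {X : Scheme.{u}} {A : Type*} [AddCommGroup A]

/-- the cycle sum of an abstract invariant. -/
noncomputable def cycA (d : ℕ) (c : X.IdealSheafData → A) (F : X.Modules) : A :=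
  ∑ᶠ ξ : X, mult d F ξ • c (vI ξ)

/-- the good property for an abstract additive invariant. -/
def GoodA (N : AddSubgroup A) (d : ℕ) (φ : X.Modules → A) (c : X.IdealSheafData → A)
    (F : X.Modules) : Prop :=
  (topPts d F).Finite ∧
    (∀ ξ : X, topologicalKrullDim (closure ({ξ} : Set X)) = (d : WithBot ℕ∞) →
      Module.length (X.presheaf.stalk ξ) (F.presheaf.stalk ξ) ≠ ⊤) ∧
    (φ F - cycA d c F) ∈ N

lemma cycA_iso (d : ℕ) (c : X.IdealSheafData → A) {M N : X.Modules} (e : M ≅ N) :
    cycA d c M = cycA d c N := by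
  unfold cycA
  rw [mult_iso d e]

lemma goodA_iso (N : AddSubgroup A) (d : ℕ) (φ : X.Modules → A) (c : X.IdealSheafData → A)
    (hiso : ∀ M M' : X.Modules, (M ≅ M') → φ M = φ M') {M M' : X.Modules} (e : M ≅ M')
    (h : GoodA N d φ c M) : GoodA N d φ c M' := by
  obtain ⟨h1, h2, h3⟩ := h
  refine ⟨?_, ?_, ?_⟩
  · rw [← topPts_iso d e]; exact h1
  · intro ξ hξ
    rw [← length_stalk_iso e ξ]
    exact h2 ξ hξ
  · rw [← hiso M M' e, ← cycA_iso d c e]
    exact h3

lemma goodA_ext (N : AddSubgroup A) (d : ℕ) (φ : X.Modules → A) (c : X.IdealSheafData → A)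
    (hadd : ∀ S : ShortComplex X.Modules, S.ShortExact → Coh.IsCoh S.X₁ → Coh.IsCoh S.X₂ →
      Coh.IsCoh S.X₃ → φ S.X₂ = φ S.X₁ + φ S.X₃)
    (S : ShortComplex X.Modules) (hS : S.ShortExact) (h₁ : Coh.IsCoh S.X₁)
    (h₂ : Coh.IsCoh S.X₂) (h₃ : Coh.IsCoh S.X₃) (p1 : GoodA N d φ c S.X₁)
    (p3 : GoodA N d φ c S.X₃) : GoodA N d φ c S.X₂ := by
  obtain ⟨a1, b1, c1⟩ := p1
  obtain ⟨a3, b3, c3⟩ := p3
  have hsupp := support_of_shortExact hS
  have hlen := fun ξ => Groth.Agent.H1.CohLen.length_stalk_add S hS ξ
  have hmult : ∀ ξ, mult d S.X₂ ξ = mult d S.X₁ ξ + mult d S.X₃ ξ := by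
    intro ξ
    unfold mult
    split_ifs with hc
    · rw [hlen ξ, ENat.toNat_add (b1 ξ hc) (b3 ξ hc)]
    · rfl
  refine ⟨?_, ?_, ?_⟩
  · apply (a1.union a3).subset
    rintro ξ ⟨hc, hs⟩
    rw [hsupp] at hs
    rcases hs with hs | hs
    · exact Or.inl ⟨hc, hs⟩
    · exact Or.inr ⟨hc, hs⟩
  · intro ξ hc
    rw [hlen ξ]
    exact WithTop.add_ne_top.mpr ⟨b1 ξ hc, b3 ξ hc⟩
  · have hcyc : cycA d c S.X₂ = cycA d c S.X₁ + cycA d c S.X₃ := by
      unfold cycA
      rw [← finsum_add_distrib]
      · apply finsum_congr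
        intro ξ
        rw [hmult ξ, add_smul]
      · apply (a1.subset (support_mult_subset d S.X₁)).subset
        intro ξ hξ hz
        apply hξ
        simp [hz]
      · apply (a3.subset (support_mult_subset d S.X₃)).subset
        intro ξ hξ hz
        apply hξ
        simp [hz]
    rw [hadd S hS h₁ h₂ h₃, hcyc]
    have : φ S.X₁ + φ S.X₃ - (cycA d c S.X₁ + cycA d c S.X₃) =
        (φ S.X₁ - cycA d c S.X₁) + (φ S.X₃ - cycA d c S.X₃) := by abel
    rw [this]
    exact N.add_mem c1 c3

theorem goodA_push_ideal [IsNoetherian X] (N : AddSubgroup A) (d : ℕ) (φ : X.Modules → A)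
    (c : X.IdealSheafData → A)
    (hzero : ∀ Z : X.Modules, IsZero Z → φ Z = 0)
    (C : X.IdealSheafData) [IsIntegral C.subscheme] (I : C.subscheme.Modules)
    (ι : I ⟶ unitMod C.subscheme) [Mono ι] (hI : I.IsQuasicoherent)
    (hint : ¬ IsTors I →
      topologicalKrullDim (closure ({C.subschemeι (genericPoint C.subscheme)} : Set X)) ≤
        (d : WithBot ℕ∞) →
      (topologicalKrullDim (closure ({C.subschemeι (genericPoint C.subscheme)} : Set X)) =
          (d : WithBot ℕ∞) → φ ((Scheme.Modules.pushforward C.subschemeι).obj I) - c C ∈ N) ∧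
      (topologicalKrullDim (closure ({C.subschemeι (genericPoint C.subscheme)} : Set X)) ≠
          (d : WithBot ℕ∞) → φ ((Scheme.Modules.pushforward C.subschemeι).obj I) ∈ N))
    (hs : topologicalKrullDim (CohB1.support ((Scheme.Modules.pushforward C.subschemeι).obj I)) ≤
      (d : WithBot ℕ∞)) :
    GoodA N d φ c ((Scheme.Modules.pushforward C.subschemeι).obj I) := by
  haveI : IsLocallyNoetherian C.subscheme :=
    LocallyOfFiniteType.isLocallyNoetherian C.subschemeι
  have hIc : Coh.IsCoh I := isCoh_of_mono ι hI (Groth.Agent.LD.PF.isCoh_unitMod C.subscheme)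
  by_cases ht : IsTors I
  · have hz : IsZero I := isZero_of_mono_unit_of_isTors I ι ht
    have hzM : IsZero ((Scheme.Modules.pushforward C.subschemeι).obj I) :=
      (Scheme.Modules.pushforward C.subschemeι).map_isZero hz
    have hsuppM := support_eq_empty_of_isZero hzM
    have htop : topPts d ((Scheme.Modules.pushforward C.subschemeι).obj I) = ∅ := by
      ext ξ
      simp only [topPts, Set.mem_ofPred_eq, Set.mem_empty_iff_false, iff_false, not_and]
      intro _ h
      rw [hsuppM] at h
      exact h
    refine ⟨?_, ?_, ?_⟩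
    · rw [htop]; exact Set.finite_empty
    · intro ξ _
      rw [length_stalk_eq_zero (by rw [hsuppM]; exact Set.notMem_empty ξ)]
      exact ENat.zero_ne_top
    · have h1 : cycA d c ((Scheme.Modules.pushforward C.subschemeι).obj I) = 0 := by
        unfold cycA
        rw [← finsum_zero (M := A) (α := X)]
        apply finsum_congr
        intro ξ
        rw [mult_eq_zero_of_notMem (by rw [htop]; exact Set.notMem_empty ξ)]
        simp
      rw [hzero _ hzM, h1, sub_zero]
      exact N.zero_mem
  · set η := C.subschemeι (genericPoint C.subscheme) with hη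
    have hcl : IsClosed (CohB1.support I) := QC.isClosed_support_of_isFiniteType I hIc.2
    have huniv : CohB1.support I = Set.univ := by
      have hη' : genericPoint C.subscheme ∈ CohB1.support I := ht
      have h1 : closure {genericPoint C.subscheme} ⊆ CohB1.support I :=
        hcl.closure_subset_iff.mpr (Set.singleton_subset_iff.mpr hη')
      rw [(genericPoint_spec C.subscheme).def] at h1
      exact Set.univ_subset_iff.mp h1
    have hsuppM : CohB1.support ((Scheme.Modules.pushforward C.subschemeι).obj I) =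
        closure ({η} : Set X) := by
      rw [← support_eq_closure_of_isIntegral C, ← C.range_subschemeι]
      apply Set.Subset.antisymm
      · exact Groth.Agent.LD.PS.support_pushforward_subset C.subschemeι I
      · rintro _ ⟨z, rfl⟩
        exact mem_support_pushforward C.subschemeι I z (by rw [huniv]; trivial)
    have hdimη : topologicalKrullDim (closure ({η} : Set X)) ≤ (d : WithBot ℕ∞) := by
      rw [← hsuppM]; exact hs
    obtain ⟨hint1, hint2⟩ := hint ht hdimη
    have hkey : ∀ ξ : X, topologicalKrullDim (closure ({ξ} : Set X)) = (d : WithBot ℕ∞) →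
        ξ ∈ CohB1.support ((Scheme.Modules.pushforward C.subschemeι).obj I) → ξ = η := by
      intro ξ hξ hmem
      rw [hsuppM] at hmem
      exact eq_of_dim_closure_eq ξ η hmem d hdimη hξ
    have hlen1 : Module.length (X.presheaf.stalk η)
        (((Scheme.Modules.pushforward C.subschemeι).obj I).presheaf.stalk η) = 1 :=
      Module.length_eq_one_iff.mpr (isSimpleModule_stalk_push C.subschemeι I ι ht)
    refine ⟨?_, ?_, ?_⟩
    · apply (Set.finite_singleton η).subset
      rintro ξ ⟨h1, h2⟩
      exact hkey ξ h1 h2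
    · intro ξ hξ
      by_cases hmem : ξ ∈ CohB1.support ((Scheme.Modules.pushforward C.subschemeι).obj I)
      · rw [hkey ξ hξ hmem, hlen1]
        exact ENat.one_ne_top
      · rw [length_stalk_eq_zero hmem]
        exact ENat.zero_ne_top
    · by_cases hdη : topologicalKrullDim (closure ({η} : Set X)) = (d : WithBot ℕ∞)
      · have hcyc : cycA d c ((Scheme.Modules.pushforward C.subschemeι).obj I) = c C := by
          unfold cycA
          rw [finsum_eq_single _ η]
          · have hm : mult d ((Scheme.Modules.pushforward C.subschemeι).obj I) η = 1 := by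
              unfold mult
              rw [if_pos hdη, hlen1]
              rfl
            have hv : vI (C.subschemeι (genericPoint C.subscheme)) = C :=
              eq_vanishingIdeal_of_isIntegral C
            rw [hm, hη, hv, one_smul]
          · intro ξ hne
            rw [mult_eq_zero_of_notMem (fun h => hne (hkey ξ h.1 h.2))]
            simp
        rw [hcyc]
        exact hint1 hdη
      · have hcyc : cycA d c ((Scheme.Modules.pushforward C.subschemeι).obj I) = 0 := by
          unfold cycA
          rw [← finsum_zero (M := A) (α := X)]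
          apply finsum_congr
          intro ξ
          rw [mult_eq_zero_of_notMem (fun h => hdη (by rw [← hkey ξ h.1 h.2]; exact h.1))]
          simp
        rw [hcyc, sub_zero]
        exact hint2 hdη

/-- **abstract dévissage by top dimensional cycles.** -/
theorem goodA_of_isCoh [IsNoetherian X] [Nonempty X] (N : AddSubgroup A) (d : ℕ)
    (φ : X.Modules → A) (c : X.IdealSheafData → A)
    (hiso : ∀ M M' : X.Modules, (M ≅ M') → φ M = φ M')
    (hadd : ∀ S : ShortComplex X.Modules, S.ShortExact → Coh.IsCoh S.X₁ → Coh.IsCoh S.X₂ →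
      Coh.IsCoh S.X₃ → φ S.X₂ = φ S.X₁ + φ S.X₃)
    (hzero : ∀ Z : X.Modules, IsZero Z → φ Z = 0)
    (hint : ∀ (C : X.IdealSheafData) [IsIntegral C.subscheme] (I : C.subscheme.Modules)
      (ι : I ⟶ unitMod C.subscheme) [Mono ι], I.IsQuasicoherent → ¬ IsTors I →
      topologicalKrullDim (closure ({C.subschemeι (genericPoint C.subscheme)} : Set X)) ≤
        (d : WithBot ℕ∞) →
      (topologicalKrullDim (closure ({C.subschemeι (genericPoint C.subscheme)} : Set X)) =
          (d : WithBot ℕ∞) → φ ((Scheme.Modules.pushforward C.subschemeι).obj I) - c C ∈ N) ∧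
      (topologicalKrullDim (closure ({C.subschemeι (genericPoint C.subscheme)} : Set X)) ≠
          (d : WithBot ℕ∞) → φ ((Scheme.Modules.pushforward C.subschemeι).obj I) ∈ N))
    (F : X.Modules) (hF : Coh.IsCoh F)
    (hs : topologicalKrullDim (CohB1.support F) ≤ (d : WithBot ℕ∞)) : GoodA N d φ c F := by
  refine devissage_ideal X (fun F => topologicalKrullDim (CohB1.support F) ≤ (d : WithBot ℕ∞) →
    GoodA N d φ c F) ?_ ?_ ?_ F hF hs
  · rintro M M' ⟨e⟩ h hsN
    apply goodA_iso N d φ c hiso e
    apply h
    rw [support_eq_of_iso e]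
    exact hsN
  · intro S hS h1 h2 h3 p1 p3 hs2
    have hsupp2 := support_of_shortExact hS
    apply goodA_ext N d φ c hadd S hS h1 h2 h3
    · apply p1
      refine (dim_mono ?_).trans hs2
      rw [hsupp2]
      exact Set.subset_union_left
    · apply p3
      refine (dim_mono ?_).trans hs2
      rw [hsupp2]
      exact Set.subset_union_right
  · intro C hC I ι hι hI hsI
    haveI := hC
    haveI := hι
    exact goodA_push_ideal N d φ c hzero C I ι hI (hint C I ι hI) hsI

end Groth.Agent.H5.Snap
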