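import Mathlib
import Groth.Agent.Lib.Helper5.Snap.CycleAbs
import Groth.Agent.Lib.Helper5.Snap.Integral
import Groth.Agent.Lib.Helper5.DegC.Nef

/-!
# `χ(E ⊗ F) - n χ(F)` on a proper scheme of dimension `≤ 1` via the one dimensional cycle of `F`.
-/

set_option autoImplicit false
universe u
open CategoryTheory CategoryTheory.Limits AlgebraicGeometry TopologicalSpace Opposite

namespace Groth.Agent.H5.Snap

open Groth.Agent.LD Groth.Agent.LD.QC Groth.Agent.H5.Curve4 Groth.Agent.H5.DegC

/-- a nonzero ideal of an integral scheme has generic rank one. -/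
theorem gdim_eq_one_of_not_isTors {C : Scheme.{u}} [IsIntegral C] [IsNoetherian C]
    (I : C.Modules) (ι : I ⟶ unitMod C) [Mono ι] (hIc : Coh.IsCoh I) (ht : ¬ IsTors I) :
    gdim I = 1 := by
  have hQc : Coh.IsCoh (cokernel ι) := isCoh_cokernel ι hIc (Groth.Agent.LD.PF.isCoh_unitMod C)
  let S : ShortComplex C.Modules := ShortComplex.mk ι (cokernel.π ι) (cokernel.condition ι)
  have hS : S.ShortExact :=
    { exact := ShortComplex.exact_cokernel ι
      mono_f := inferInstanceAs (Mono ι)
      epi_g := inferInstanceAs (Epi (cokernel.π ι)) }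
  have g := gdim_add S hS hIc hQc
  change gdim (unitMod C) = gdim I + gdim (cokernel ι) at g
  rw [gdim_unit] at g
  have h0 : gdim (cokernel ι) = 0 := gdim_of_isTors (isTors_cokernel_of_not_isTors I ι hIc ht)
  omega

variable (k : Type u) [Field k] {X : Scheme.{u}} [X.Over (Spec (CommRingCat.of k))]

/-- the degree of the restriction of `E` to the closed subscheme `V(I)`. -/
noncomputable def cDeg (n : ℕ) (E : X.Modules) (V : X.IdealSheafData) : ℤ :=
  @Curv2.deg k _ V.subscheme (overOf k V.subschemeι)
    ((Scheme.Modules.pullback V.subschemeι).obj E) n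

variable [IsProper (X ↘ Spec (CommRingCat.of k))]

/-- **`χ(E ⊗ F) - n χ(F) = Σ_ξ length(F_ξ) deg(E|_{cl ξ})`** over the points `ξ` with one
dimensional closure. -/
theorem del_eq_cycA [IsNoetherian X] [Nonempty X] (hdim : topologicalKrullDim X ≤ 1) (n : ℕ)
    (E : X.Modules) (hE : FlatMod.IsFinLocFreeOfRank n E) (F : X.Modules) (hF : Coh.IsCoh F) :
    del k X n E F = cycA 1 (cDeg k n E) F := by
  have hEf := Curve.isFinLocFree_of_rank hE
  have key := goodA_of_isCoh (X := X) (⊥ : AddSubgroup ℤ) 1 (del k X n E) (cDeg k n E)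
    (fun M M' e => del_iso k n E e)
    (fun S hS h1 h2 h3 => del_add k n E hE S hS h1 h2 h3)
    ?_ ?_ F hF ?_
  · have h3 := key.2.2
    rw [AddSubgroup.mem_bot] at h3
    exact sub_eq_zero.mp h3
  · intro Z hZ
    unfold del
    have hz : IsZero (CohB1.tensorMod E Z) := (LT E).map_isZero hZ
    rw [Curve.euler_of_isZero k X hz, Curve.euler_of_isZero k X hZ]
    ring
  · intro C hC I ι hι hI ht hd
    haveI := hC
    haveI := hι
    letI : C.subscheme.Over (Spec (CommRingCat.of k)) := overOf k C.subschemeι
    haveI : IsProper (C.subscheme ↘ Spec (CommRingCat.of k)) :=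
      inferInstanceAs (IsProper (C.subschemeι ≫ (X ↘ Spec (CommRingCat.of k))))
    haveI : IsNoetherian C.subscheme := Curve2.isNoetherian_of_proper k C.subscheme
    have hIc : Coh.IsCoh I := isCoh_of_mono ι hI (Groth.Agent.LD.PF.isCoh_unitMod C.subscheme)
    have hdimC : topologicalKrullDim C.subscheme ≤ 1 :=
      (C.subschemeι.isClosedEmbedding.isInducing.topologicalKrullDim_le).trans hdim
    have hE' := Groth.Agent.H5.Lim.isFinLocFreeOfRank_pullback C.subschemeι E hE
    have e1 : del k X n E ((Scheme.Modules.pushforward C.subschemeι).obj I) =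
        cDeg k n E C := by
      rw [del_push k C.subschemeι n E hEf, del_eq_of_integral k hdimC n _ hE' I hIc,
        gdim_eq_one_of_not_isTors I ι hIc ht]
      unfold cDeg
      simp
    refine ⟨fun _ => ?_, fun hne => ?_⟩
    · rw [e1, sub_self]
      exact AddSubgroup.zero_mem _
    · rw [e1, AddSubgroup.mem_bot]
      unfold cDeg
      apply deg_eq_zero_of_dim_le_zero k _ n _ hE'
      rw [dim_subscheme_eq, support_eq_closure_of_isIntegral]
      exact le_zero_of_le_one_of_ne hd hne
  · refine (Topology.IsInducing.subtypeVal.topologicalKrullDim_le).trans ?_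
    rw [Nat.cast_one]
    exact hdim

end Groth.Agent.H5.Snap
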