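import Mathlib

/-!
# The dimension of a space is bounded by the dimensions of its irreducible components.
-/

set_option autoImplicit false

namespace Groth.Agent.H5.Snap

open TopologicalSpace Order

/-- the preimage in a subspace `Z` of an irreducible subset of `Z` is irreducible. -/
lemma isIrreducible_preimage_val {T : Type*} [TopologicalSpace T] {W Z : Set T}
    (hW : IsIrreducible W) (hWZ : W ⊆ Z) : IsIrreducible ((Subtype.val : Z → T) ⁻¹' W) := by
  refine ⟨?_, ?_⟩
  · obtain ⟨x, hx⟩ := hW.1
    exact ⟨⟨x, hWZ hx⟩, hx⟩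
  · intro u' v' hu' hv' hne1 hne2
    obtain ⟨u, hu, rfl⟩ := isOpen_induced_iff.mp hu'
    obtain ⟨v, hv, rfl⟩ := isOpen_induced_iff.mp hv'
    obtain ⟨a, ha1, ha2⟩ := hne1
    obtain ⟨b, hb1, hb2⟩ := hne2
    obtain ⟨x, hx1, hx2⟩ := hW.2 u v hu hv ⟨a.1, ha1, ha2⟩ ⟨b.1, hb1, hb2⟩
    exact ⟨⟨x, hWZ hx1⟩, hx1, hx2⟩

/-- the dimension of a space is bounded by the dimensions of its irreducible components. -/
theorem dim_le_of_forall_irreducibleComponents {T : Type*} [TopologicalSpace T] (d : WithBot ℕ∞)
    (h : ∀ Z ∈ irreducibleComponents T, topologicalKrullDim Z ≤ d) :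
    topologicalKrullDim T ≤ d := by
  unfold topologicalKrullDim
  refine iSup_le fun l => ?_
  obtain ⟨Z, hZ, hlZ⟩ := exists_mem_irreducibleComponents_subset_of_isIrreducible
    (l.last : Set T) l.last.isIrreducible
  have hsub : ∀ i, (l i : Set T) ⊆ Z := fun i =>
    (show (l i : Set T) ⊆ (l.last : Set T) from l.monotone (Fin.le_last i)).trans hlZ
  let l' : LTSeries (IrreducibleCloseds Z) :=
    { length := l.length
      toFun := fun i => ⟨(Subtype.val : Z → T) ⁻¹' (l i : Set T),
        isIrreducible_preimage_val (l i).isIrreducible (hsub i),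
        (l i).isClosed.preimage continuous_subtype_val⟩
      step := by
        intro i
        have hlt : l i.castSucc < l i.succ := l.step i
        change (_ : IrreducibleCloseds Z) < _
        rw [lt_iff_le_and_ne] at hlt ⊢
        refine ⟨fun x hx => hlt.1 hx, fun heq => hlt.2 ?_⟩
        apply SetLike.coe_injective
        have h1 : (Subtype.val : Z → T) ⁻¹' (l i.castSucc : Set T) =
            (Subtype.val : Z → T) ⁻¹' (l i.succ : Set T) := congrArg (fun W : IrreducibleCloseds Z => (W : Set Z)) heq
        apply Set.Subset.antisymm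
        · exact hlt.1
        · intro x hx
          have : (⟨x, hsub _ hx⟩ : Z) ∈ (Subtype.val : Z → T) ⁻¹' (l i.castSucc : Set T) := by
            rw [h1]; exact hx
          exact this }
  exact (LTSeries.length_le_krullDim l').trans (h Z hZ)

end Groth.Agent.H5.Snap
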