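import Mathlib
import Groth.Agent.Lib.Helper5.Snap.DelCycle
import Groth.Agent.Lib.Helper5.Snap.DimComp

/-!
# Sums over points with top dimensional closure as sums over irreducible components.
-/

set_option autoImplicit false
universe u
open CategoryTheory CategoryTheory.Limits AlgebraicGeometry TopologicalSpace Opposite

namespace Groth.Agent.H5.Snap

open Groth.Agent.LD Groth.Agent.LD.QC Groth.Agent.H5.Curve4 Groth.Agent.H5.DegC

variable {X : Scheme.{u}}

/-- the generic point of an irreducible component. -/
noncomputable def gp (Z : irreducibleComponents (X : Type u)) : X := Z.2.1.genericPoint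

lemma closure_gp (Z : irreducibleComponents (X : Type u)) : closure ({gp Z} : Set X) = Z.1 :=
  (Z.2.1.isGenericPoint_genericPoint (isClosed_of_mem_irreducibleComponents Z.1 Z.2)).def

lemma gp_injective : Function.Injective (gp (X := X)) := by
  intro Z Z' h
  apply Subtype.ext
  rw [← closure_gp Z, ← closure_gp Z', h]

/-- a point whose closure has the dimension of the space is the generic point of a component. -/
lemma exists_gp_of_dim_eq (d : ℕ) (hdim : topologicalKrullDim X ≤ d) (ξ : X)
    (hξ : topologicalKrullDim (closure ({ξ} : Set X)) = d) : ∃ Z, gp Z = ξ := by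
  obtain ⟨Z, hZ, hsub⟩ := exists_mem_irreducibleComponents_subset_of_isIrreducible
    (closure ({ξ} : Set X)) isIrreducible_singleton.closure
  refine ⟨⟨Z, hZ⟩, ?_⟩
  symm
  refine eq_of_dim_closure_eq ξ (gp ⟨Z, hZ⟩) ?_ d ?_ hξ
  · rw [closure_gp]
    exact hsub (subset_closure rfl)
  · exact (topologicalKrullDim_subspace_le _ _).trans hdim

/-- sums over the points of top dimensional closure are sums over the components. -/
theorem finsum_points_eq_components {A : Type*} [AddCommMonoid A] (d : ℕ)
    (hdim : topologicalKrullDim X ≤ d) (f : X → A)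
    (hf : ∀ ξ, topologicalKrullDim (closure ({ξ} : Set X)) ≠ d → f ξ = 0) :
    ∑ᶠ ξ, f ξ = ∑ᶠ Z : irreducibleComponents (X : Type u), f (gp Z) := by
  rw [← finsum_mem_range gp_injective, ← finsum_mem_univ]
  apply finsum_mem_inter_support_eq'
  intro ξ hξ
  refine ⟨fun _ => ?_, fun _ => Set.mem_univ _⟩
  by_contra hn
  apply hξ
  apply hf
  intro hd
  exact hn (exists_gp_of_dim_eq d hdim ξ hd)

/-- the reduced structure on an irreducible component. -/
lemma vI_gp [IsNoetherian X] (Z : irreducibleComponents (X : Type u)) :
    vI (gp Z) = (X.irreducibleComponentIdeal Z.1 Z.2).radical := by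
  rw [← Scheme.IdealSheafData.vanishingIdeal_support]
  unfold vI
  congr 1
  apply Closeds.ext
  exact closure_gp Z

end Groth.Agent.H5.Snap
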