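import Mathlib
import Groth.Agent.Lib.Helper5.Snap.CompSum
import Groth.Agent.Lib.Helper1.CohPush

/-!
# The degree on a proper scheme of dimension `≤ 1` via the irreducible components.
-/

set_option autoImplicit false
universe u
open CategoryTheory CategoryTheory.Limits AlgebraicGeometry TopologicalSpace Opposite

namespace Groth.Agent.H5.Snap

open Groth.Agent.LD Groth.Agent.LD.QC Groth.Agent.H5.Curve4 Groth.Agent.H5.DegC

/-- **S1641**. -/
theorem deg_eq_sum_components (k : Type u) [Field k] (X : Scheme.{u}) [X.Over (Spec (CommRingCat.of k))] [IsProper (X ↘ (Spec (CommRingCat.of k)))] [IsNoetherian X] (hdim : topologicalKrullDim X ≤ 1)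
    (n : ℕ) (E : X.Modules) (hE : FlatMod.IsFinLocFreeOfRank n E) :
    Curv2.deg k X E n = ∑ᶠ Z : irreducibleComponents (X : Type u),
      (if topologicalKrullDim (Z.1 : Set X) = 1 then
        ((Module.length (X.presheaf.stalk Z.2.1.genericPoint) (X.presheaf.stalk Z.2.1.genericPoint)).toNat : ℤ) *
          @Curv2.deg k _ (X.irreducibleComponentIdeal Z.1 Z.2).radical.subscheme ⟨(X.irreducibleComponentIdeal Z.1 Z.2).radical.subschemeι ≫ (X ↘ (Spec (CommRingCat.of k)))⟩ ((Scheme.Modules.pullback (X.irreducibleComponentIdeal Z.1 Z.2).radical.subschemeι).obj E) n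
      else 0) := by
  have hdim1' : topologicalKrullDim X ≤ ((1 : ℕ) : WithBot ℕ∞) := by
    rw [Nat.cast_one]; exact hdim
  rcases isEmpty_or_nonempty X with he | hne
  · unfold Curv2.deg
    rw [euler_eq_zero_of_isEmpty k, euler_eq_zero_of_isEmpty k]
    haveI : IsEmpty (irreducibleComponents (X : Type u)) :=
      ⟨fun Z => by obtain ⟨x, _⟩ := Z.2.1.1; exact he.false x⟩
    rw [finsum_of_isEmpty]
    simp
  have h := del_eq_cycA k hdim n E hE (unitMod X) (PF.isCoh_unitMod X)
  unfold del at h
  rw [Curve.euler_iso k X (SecTwist.unitorR E)] at h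
  have h2 : cycA 1 (cDeg k n E) (unitMod X) =
      ∑ᶠ Z : irreducibleComponents (X : Type u),
      (if topologicalKrullDim (Z.1 : Set X) = 1 then
        ((Module.length (X.presheaf.stalk Z.2.1.genericPoint) (X.presheaf.stalk Z.2.1.genericPoint)).toNat : ℤ) *
          @Curv2.deg k _ (X.irreducibleComponentIdeal Z.1 Z.2).radical.subscheme ⟨(X.irreducibleComponentIdeal Z.1 Z.2).radical.subschemeι ≫ (X ↘ (Spec (CommRingCat.of k)))⟩ ((Scheme.Modules.pullback (X.irreducibleComponentIdeal Z.1 Z.2).radical.subschemeι).obj E) n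
      else 0) := by
    unfold cycA
    rw [finsum_points_eq_components 1 hdim1'
      (fun ξ => mult 1 (unitMod X) ξ • cDeg k n E (vI ξ))]
    · apply finsum_congr
      intro Z
      beta_reduce
      unfold mult
      rw [closure_gp, Nat.cast_one]
      split_ifs with hc
      · rw [Groth.Agent.H1.CohLen.length_unit_stalk, vI_gp, nsmul_eq_mul]
        rfl
      · rw [zero_smul]
    · intro ξ hξ
      beta_reduce
      unfold mult
      rw [if_neg hξ, zero_smul]
  rw [← h2, ← h]
  rfl

end Groth.Agent.H5.Snap
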